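import Cfsg.Agent.Lib.Zass25.Core
import Cfsg.Agent.Lib.PUnique.Basic
import Cfsg.Agent.Lib.Transfer.Criteria
import Cfsg.Agent.Lib.Transfer.QuaternionSylow
import Cfsg.Agent.S3378

/-!
A fixed-point-free group without `2.A₅` is soluble.
-/

set_option autoImplicit false

namespace Cfsg.Agent.Lib.Zass25

variable {G : Type*} [Group G] [Finite G]

theorem isSolvable_of_index_lt (C : Subgroup G) [C.Normal] [Group.IsSolvable C]
    (hC : C.index < 60) : Group.IsSolvable G := by
  have : Group.IsSolvable (G ⧸ C) := S3378.isSolvable_of_card_lt _ _ rfl (by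
    rw [← Subgroup.index_eq_card]; exact hC)
  exact Group.isSolvable_of_ker_le_range C.subtype (QuotientGroup.mk' C) (by simp)

theorem index_le_of_injOn {X : Type*} [Finite X] (C : Subgroup G) (f : G → X)
    (hf : ∀ g g' : G, f g = f g' → g⁻¹ * g' ∈ C) : C.index ≤ Nat.card X := by
  refine Nat.card_le_card_of_injective (fun q : G ⧸ C => f q.out) fun q q' e => ?_
  rw [← q.out_eq', ← q'.out_eq']
  exact QuotientGroup.eq.mpr (hf _ _ e)

variable (h : HasFpfRep G)
include h

theorem sylow_cyclic_or_quaternion {p : ℕ} [hp : Fact p.Prime] (P : Sylow p G) :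
    IsCyclic (P : Subgroup G) ∨
      (p = 2 ∧ ∃ n : ℕ, Nonempty ((P : Subgroup G) ≃* QuaternionGroup (2 ^ n))) := by
  refine PUnique.isCyclic_or_quaternion P.2 ?_
  rcases subsingleton_or_nontrivial (P : Subgroup G) with hs | hs
  · intro H K _ _; exact Subsingleton.elim _ _
  have : Nontrivial (Subgroup.center (P : Subgroup G)) := P.2.center_nontrivial
  obtain ⟨z, hz⟩ := exists_prime_orderOf_dvd_card' (G := Subgroup.center (P : Subgroup G)) p (by
    obtain ⟨k, hk, e⟩ := (P.2.to_subgroup _).nontrivial_iff_card.mp this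
    rw [e]; exact dvd_pow_self p hk.ne')
  set z' : (P : Subgroup G) := (z : (P : Subgroup G)) with hz'
  have hzo : orderOf z' = p := by rw [hz', Subgroup.orderOf_coe, hz]
  have key : ∀ H : Subgroup (P : Subgroup G), Nat.card H = p → H = Subgroup.zpowers z' := by
    intro H hH
    refine Subgroup.eq_of_le_of_card_ge (fun x hx => ?_) (by rw [Nat.card_zpowers, hzo, hH])
    have hxp : x ^ p = 1 := by
      have := pow_card_eq_one' (x := (⟨x, hx⟩ : H))
      rw [hH] at this
      exact congrArg Subtype.val this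
    have hzG : (z' : G) ^ p = 1 := by
      have := pow_orderOf_eq_one z'
      rw [hzo] at this
      exact congrArg Subtype.val this
    have hz1 : (z' : G) ≠ 1 := fun e => hp.out.ne_one (by
      rw [← hzo, orderOf_eq_one_iff]; exact Subtype.ext e)
    obtain ⟨i, hi⟩ := mem_zpowers_of_commute h hp.out hzG hz1
      (by rw [← Subgroup.coe_pow, hxp]; rfl) (x := (x : G))
      (congrArg Subtype.val (Subgroup.mem_center_iff.mp z.2 x))
    exact ⟨i, Subtype.ext (by simpa using hi)⟩
  intro H K hH hK
  rw [key H hH, key K hK]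

theorem sylow_cyclic_of_odd {p : ℕ} [Fact p.Prime] (hp : p ≠ 2) (P : Sylow p G) :
    IsCyclic (P : Subgroup G) :=
  (sylow_cyclic_or_quaternion h P).resolve_right fun e => hp e.1

theorem isZGroup_of_two (h2 : ∀ P : Sylow 2 G, IsCyclic (P : Subgroup G)) : IsZGroup G := by
  refine ⟨fun p hp P => ?_⟩
  have := Fact.mk hp
  rcases eq_or_ne p 2 with rfl | h'
  · exact h2 P
  · exact sylow_cyclic_of_odd h h' P

theorem isSolvable_of_odd (hodd : ¬ 2 ∣ Nat.card G) : Group.IsSolvable G := by
  have : IsZGroup G := isZGroup_of_two h fun P => by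
    have : Subsingleton (P : Subgroup G) := by
      refine (Nat.card_eq_one_iff_unique.mp ?_).1
      by_contra hne
      exact hodd ((P.2.nontrivial_iff_card.mp (Finite.one_lt_card_iff_nontrivial.mp
        (by have := Nat.card_pos (α := (P : Subgroup G)); omega))).elim fun k ⟨hk, e⟩ =>
          (dvd_pow_self 2 hk.ne').trans (e ▸ Subgroup.card_subgroup_dvd_card (P : Subgroup G)))
    infer_instance
  infer_instance

theorem isSolvable_of_complement {p : ℕ} [Fact p.Prime] (hG : Cfsg.HasNormalPComplement p G)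
    (hN : ∀ N : Subgroup G, ¬ p ∣ Nat.card N → Group.IsSolvable N) : Group.IsSolvable G := by
  obtain ⟨P, N, hNn, hc⟩ := hG
  have : Group.IsSolvable N := hN N fun hd => P.not_dvd_index (hc.index_eq_card ▸ hd)
  have hq : IsPGroup p (G ⧸ N) := by
    rw [IsPGroup.iff_card]
    obtain ⟨k, hk⟩ := P.2.exists_card_eq
    exact ⟨k, by rw [← Subgroup.index_eq_card, hc.symm.index_eq_card, hk]⟩
  have := hq.isNilpotent
  exact Group.isSolvable_of_ker_le_range N.subtype (QuotientGroup.mk' N) (by simp)

theorem isSolvable_of_not_three_dvd (h3 : ¬ 3 ∣ Nat.card G) : Group.IsSolvable G := by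
  let T : Sylow 2 G := default
  by_cases hz : IsZGroup G
  · infer_instance
  obtain ⟨T, hT⟩ : ∃ T : Sylow 2 G, ¬ IsCyclic (T : Subgroup G) := by
    by_contra hne
    push Not at hne
    exact hz (isZGroup_of_two h hne)
  obtain ⟨-, n, ⟨e⟩⟩ := (sylow_cyclic_or_quaternion h T).resolve_left hT
  have hn : 1 ≤ n := by
    by_contra hn0
    obtain rfl : n = 0 := by omega
    have : IsCyclic (QuaternionGroup (2 ^ 0)) := QuaternionGroup.quaternionGroup_one_isCyclic
    exact hT (e.symm.isCyclic.mp this)
  rcases Transfer.hasNormalPComplement_or_sl23 T n ⟨e⟩ with hc | ⟨H, K, hK, ⟨e'⟩⟩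
  · exact isSolvable_of_complement h hc fun N hN => isSolvable_of_odd (h.subgroup N) hN
  · exfalso
    apply h3
    have h24 : Nat.card (Matrix.SpecialLinearGroup (Fin 2) (ZMod 3)) = 24 := by
      rw [Nat.card_eq_fintype_card]; decide +kernel
    have h1 : 24 ∣ Nat.card H := by
      rw [← h24, ← Nat.card_congr e'.toEquiv, ← Subgroup.index_eq_card]
      exact Subgroup.index_dvd_card _
    exact ((by norm_num : 3 ∣ 24).trans h1).trans (Subgroup.card_subgroup_dvd_card H)

theorem exists_three (h3 : 3 ∣ Nat.card G) : ∃ a : G, IsThree a := by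
  obtain ⟨a, ha⟩ := exists_prime_orderOf_dvd_card' 3 h3
  exact ⟨a, by rw [← pow_three', ← ha, pow_orderOf_eq_one], fun e => by
    rw [e, orderOf_one] at ha; omega⟩

theorem isSolvable_of_central (hc : ∀ x : G, IsThree x → ∀ g, g * x = x * g) :
    Group.IsSolvable G := by
  by_cases h3 : 3 ∣ Nat.card G
  swap
  · exact isSolvable_of_not_three_dvd h h3
  let P : Sylow 3 G := default
  have hP := sylow_cyclic_of_odd h (by norm_num) P
  obtain ⟨e, he⟩ := P.2.exists_card_eq
  have he0 : e ≠ 0 := by
    rintro rfl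
    exact P.ne_bot_of_dvd_card h3 (Subgroup.eq_bot_of_card_eq _ (by rw [he, pow_zero]))
  refine isSolvable_of_complement h (Transfer.hasNormalPComplement_of_normalizer_le_centralizer P ?_)
    fun N hN => isSolvable_of_not_three_dvd (h.subgroup N) hN
  obtain ⟨x, hx⟩ := IsCyclic.exists_ofOrder_eq_natCard (α := (P : Subgroup G))
  rw [he] at hx
  have hxtop : ∀ y : (P : Subgroup G), y ∈ Subgroup.zpowers x := fun y =>
    (Subgroup.eq_top_of_card_eq (Subgroup.zpowers x) (by rw [Nat.card_zpowers, hx, he])) ▸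
      Subgroup.mem_top y
  have hpow : ∀ f : (Subgroup.normalizer ((P : Subgroup G) : Set G)),
      (P : Subgroup G).normalizerMonoidHom f ^ 3 ^ e = 1 := by
    intro f
    set σ := (P : Subgroup G).normalizerMonoidHom f with hσ
    obtain ⟨k, hk⟩ := hxtop (σ x)
    have hiter : ∀ j : ℕ, (σ ^ j) x = x ^ (k ^ j) := by
      intro j
      induction j with
      | zero => simp
      | succ j ih =>
        rw [pow_succ' σ, MulAut.mul_apply, ih, map_zpow, ← hk, ← zpow_mul, pow_succ' k]
    have h3k : (3 : ℤ) ∣ k - 1 := by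
      set r := x ^ 3 ^ (e - 1) with hr
      have hr3 : orderOf r = 3 := by
        rw [hr, orderOf_pow' x (pow_ne_zero _ (by norm_num)), hx,
          Nat.gcd_eq_right (pow_dvd_pow 3 (by omega)), Nat.pow_div (by omega) (by norm_num),
          show e - (e - 1) = 1 by omega, pow_one]
      have hrG : IsThree (r : G) := by
        have h1 : (r : G) ^ 3 = 1 := by
          have := pow_orderOf_eq_one r
          rw [hr3] at this
          exact congrArg Subtype.val this
        refine ⟨by rwa [← pow_three'], fun e1 => ?_⟩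
        rw [show r = 1 from Subtype.ext e1, orderOf_one] at hr3
        omega
      have hfix : σ r = r := Subtype.ext (by
        show ((f : G) * r * (f : G)⁻¹ : G) = r
        rw [hc _ hrG, mul_inv_cancel_right])
      have hrk : σ r = r ^ k := by
        rw [hr, map_pow, ← hk, ← zpow_natCast x, ← zpow_natCast (x ^ k), ← zpow_mul, ← zpow_mul,
          mul_comm]
      rw [show (3 : ℤ) = ((orderOf r : ℕ) : ℤ) by rw [hr3]; rfl, orderOf_dvd_iff_zpow_eq_one,
        zpow_sub, zpow_one, ← hrk, hfix, mul_inv_cancel]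
    refine MulEquiv.ext fun y => ?_
    obtain ⟨m, rfl⟩ := hxtop y
    show (σ ^ 3 ^ e) (x ^ m) = x ^ m
    rw [map_zpow, hiter]
    congr 1
    have hd : (3 : ℤ) ^ e ∣ k ^ 3 ^ e - 1 := by
      have := dvd_sub_pow_of_dvd_sub (R := ℤ) (p := 3) h3k e
      rw [one_pow] at this
      exact (pow_dvd_pow _ (Nat.le_succ e)).trans this
    rw [show k ^ 3 ^ e = (k ^ 3 ^ e - 1) + 1 by ring, zpow_add, zpow_one,
      (orderOf_dvd_iff_zpow_eq_one.mp (by rw [hx]; exact_mod_cast hd) :
        x ^ (k ^ 3 ^ e - 1) = 1), one_mul]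
  intro g hg
  have hrange : Nat.card (P : Subgroup G).normalizerMonoidHom.range = 1 := by
    set f := (P : Subgroup G).normalizerMonoidHom with hfdef
    have h1 : IsPGroup 3 f.range := by
      rintro ⟨_, u, rfl⟩
      exact ⟨e, Subtype.ext (by simpa using hpow u)⟩
    obtain ⟨j, hj⟩ := h1.exists_card_eq
    have h2 : Nat.card f.range ∣ (P : Subgroup G).index := by
      rw [← Subgroup.index_ker, hfdef, Subgroup.normalizerMonoidHom_ker]
      have hcomm : (P : Subgroup G) ≤ Subgroup.centralizer ((P : Subgroup G) : Set G) :=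
        Subgroup.le_centralizer _
      exact (Subgroup.relIndex_dvd_of_le_left _ hcomm).trans
        (Subgroup.relIndex_dvd_index_of_le (P : Subgroup G).le_normalizer)
    rcases Nat.eq_zero_or_pos j with rfl | hj0
    · simpa using hj
    · exact absurd ((dvd_pow_self 3 hj0.ne').trans (hj ▸ h2)) P.not_dvd_index
  have h1 : (⟨g, hg⟩ : Subgroup.normalizer ((P : Subgroup G) : Set G)) ∈
      (P : Subgroup G).normalizerMonoidHom.ker := by
    rw [MonoidHom.mem_ker]
    have hbot := Subgroup.eq_bot_of_card_eq _ hrange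
    exact (Subgroup.mem_bot.mp (hbot ▸ ⟨_, rfl⟩ :
      (P : Subgroup G).normalizerMonoidHom ⟨g, hg⟩ ∈ (⊥ : Subgroup _)))
  rw [Subgroup.normalizerMonoidHom_ker] at h1
  exact h1

theorem isSolvable_of_commute (hall : ∀ x y : G, IsThree x → IsThree y → x * y = y * x) :
    Group.IsSolvable G := by
  by_cases h3 : 3 ∣ Nat.card G
  swap
  · exact isSolvable_of_not_three_dvd h h3
  obtain ⟨a, ha⟩ := exists_three h h3
  have hmem : ∀ x, IsThree x → x ∈ Subgroup.zpowers a := fun x hx =>
    three_mem_of_commute h hx ha (hall x a hx ha) (Subgroup.mem_zpowers a)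
  set C := Subgroup.centralizer {x : G | IsThree x} with hC
  have : C.Normal := ⟨fun c hc g => Subgroup.mem_centralizer_iff.mpr fun x hx => by
    have := Subgroup.mem_centralizer_iff.mp hc _ (IsThree.conj hx g⁻¹)
    calc x * (g * c * g⁻¹) = g * (g⁻¹ * x * g⁻¹⁻¹ * c) * g⁻¹ := by group
      _ = g * (c * (g⁻¹ * x * g⁻¹⁻¹)) * g⁻¹ := by rw [this]
      _ = _ := by group⟩
  have : Group.IsSolvable C := by
    refine isSolvable_of_central (h.subgroup C) fun x hx g => Subtype.ext ?_
    exact (Subgroup.mem_centralizer_iff.mp g.2 (x : G)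
      ⟨congrArg Subtype.val hx.1, fun e => hx.2 (Subtype.ext e)⟩).symm
  refine isSolvable_of_index_lt C (lt_of_le_of_lt (index_le_of_injOn C
    (fun g => (⟨g * a * g⁻¹, hmem _ (ha.conj g)⟩ : Subgroup.zpowers a)) fun g g' e => ?_) ?_)
  · refine Subgroup.mem_centralizer_iff.mpr fun x hx => ?_
    obtain ⟨i, rfl⟩ := hmem x hx
    have e' : g * a * g⁻¹ = g' * a * g'⁻¹ := congrArg Subtype.val e
    have hc : Commute a (g⁻¹ * g') := by
      calc a * (g⁻¹ * g') = g⁻¹ * (g * a * g⁻¹) * g' := by group
        _ = g⁻¹ * (g' * a * g'⁻¹) * g' := by rw [e']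
        _ = g⁻¹ * g' * a := by group
    exact hc.zpow_left i
  · rw [Nat.card_zpowers, orderOf_eq_prime (p := 3) (by rw [pow_three']; exact ha.1) ha.2]
    norm_num

omit [Group G] [Finite G] h in
theorem card_pos_pairs : ((fourThrees ×ˢ fourThrees).filter
    fun q => decide (Pos q.1 q.2)).toFinset.card < 60 := by
  decide +kernel

theorem isSolvable_of_no_twoA5 (hno : ∀ L : Subgroup G, ¬ IsTwoA5 L) : Group.IsSolvable G := by
  by_cases hall : ∀ x y : G, IsThree x → IsThree y → x * y = y * x
  · exact isSolvable_of_commute h hall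
  push Not at hall
  obtain ⟨a, b₀, ha, hb₀, hab₀⟩ := hall
  obtain ⟨b, hb, hab⟩ : ∃ b, IsThree b ∧ IsPos a b := by
    have h4 := (classify_pair h ha.1 hb₀.1 hab₀).resolve_right (hno _)
    rcases h4.pair h (Subgroup.subset_closure (by simp)) (Subgroup.subset_closure (by simp)) ha hb₀
      with e | e | e
    · exact absurd e hab₀
    · exact ⟨b₀, hb₀, e⟩
    · exact ⟨b₀ * b₀, hb₀.sq, e⟩
  have hne := not_commute_of_isPos ha.1 hb.1 hab
  set T := Subgroup.closure ({a, b} : Set G) with hTdef
  have hT : IsTwoA4 T := (classify_pair h ha.1 hb.1 hne).resolve_right (hno _)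
  have haT : a ∈ T := Subgroup.subset_closure (by simp)
  have hbT : b ∈ T := Subgroup.subset_closure (by simp)
  have posmem : ∀ w, IsThree w → IsPos a w → w ∈ T := by
    intro w hw haw
    have hT' := (classify_triple h hb.1 ha.1 hw.1 hab.symm haw).resolve_right (hno _)
    have hle : T ≤ Subgroup.closure {b, a, w} :=
      Subgroup.closure_mono (by simp [Set.insert_subset_iff])
    rw [Subgroup.eq_of_le_of_card_ge hle (by rw [hT.1, hT'.1])]
    exact Subgroup.subset_closure (by simp)
  have hmem : ∀ w, IsThree w → w ∈ T := by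
    intro w hw
    by_cases hc : Commute w a
    · exact three_mem_of_commute h hw ha hc haT
    have h4 := (classify_pair h ha.1 hw.1 fun e => hc e.symm).resolve_right (hno _)
    rcases h4.pair h (Subgroup.subset_closure (by simp)) (Subgroup.subset_closure (by simp)) ha hw
      with e | e | e
    · exact absurd e.symm hc
    · exact posmem w hw e
    · exact hw.sq_sq ▸ mul_mem (posmem _ hw.sq e) (posmem _ hw.sq e)
  set C := Subgroup.centralizer {x : G | IsThree x} with hC
  have : C.Normal := ⟨fun c hc g => Subgroup.mem_centralizer_iff.mpr fun x hx => by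
    have := Subgroup.mem_centralizer_iff.mp hc _ (IsThree.conj hx g⁻¹)
    calc x * (g * c * g⁻¹) = g * (g⁻¹ * x * g⁻¹⁻¹ * c) * g⁻¹ := by group
      _ = g * (c * (g⁻¹ * x * g⁻¹⁻¹)) * g⁻¹ := by rw [this]
      _ = _ := by group⟩
  have hsq : ∀ c ∈ C, c * c * (c * c) = 1 → c * c = 1 := by
    intro c hc h4
    by_contra h2
    have ec : c * c = a * b * (a * b) := involution_eq h h2 h4 hab.1 hab.2
    have hca : Commute a c := Subgroup.mem_centralizer_iff.mp hc a ha
    have hcb : Commute b c := Subgroup.mem_centralizer_iff.mp hc b hb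
    have hic : Commute (a * b) c := hca.mul_left hcb
    have h1 : a * b * c * (a * b * c) = 1 := by
      rw [hic.symm.mul_mul_mul_comm, ec, hab.2]
    apply hne
    have key : Commute a (a * b) := by
      rcases eq_or_ne (a * b * c) 1 with e | e
      · rw [eq_inv_of_mul_eq_one_left e]; exact hca.inv_right
      · have et := involution_eq h e h1 hab.1 hab.2
        rw [eq_mul_inv_of_mul_eq et]
        exact (show Commute a (a * b * (a * b)) from involution_central h hab.1 hab.2 a).mul_right
          hca.inv_right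
    have := key.eq
    rw [mul_assoc] at this
    exact mul_left_cancel this
  have : IsZGroup C := isZGroup_of_two (h.subgroup C) fun P => by
    have hle : (P : Subgroup C).map C.subtype ≤ Subgroup.zpowers (a * b * (a * b)) := by
      rintro _ ⟨c, hcP, rfl⟩
      have hcC : (c : G) ∈ C := c.2
      obtain ⟨k, hk⟩ := P.2 ⟨c, hcP⟩
      have hk' : (c : G) ^ 2 ^ k = 1 := congrArg (fun u : (P : Subgroup C) => ((u : C) : G)) hk
      have hall2 : ∀ j, ∀ d ∈ C, d ^ 2 ^ j = 1 → d * d = 1 := by
        intro j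
        induction j with
        | zero => intro d _ hd; rw [pow_zero, pow_one] at hd; simp [hd]
        | succ j ih =>
          intro d hd hd1
          rw [pow_succ', pow_mul, pow_two] at hd1
          exact hsq d hd (ih _ (mul_mem hd hd) hd1)
      have h2 := hall2 k _ hcC hk'
      show (c : G) ∈ _
      rcases eq_or_ne (c : G) 1 with e | e
      · rw [e]; exact one_mem _
      · rw [involution_eq h e h2 hab.1 hab.2]; exact Subgroup.mem_zpowers _
    have := Subgroup.isCyclic_of_le hle
    exact ((P : Subgroup C).equivMapOfInjective C.subtype C.subtype_injective).isCyclic.mpr this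
  obtain ⟨-, π, hπ, -⟩ := hT
  refine isSolvable_of_index_lt C (lt_of_le_of_lt (index_le_of_injOn C (fun g =>
    (⟨(π ⟨g * a * g⁻¹, hmem _ (ha.conj g)⟩, π ⟨g * b * g⁻¹, hmem _ (hb.conj g)⟩), ?_⟩ :
      ((fourThrees ×ˢ fourThrees).filter fun q => decide (Pos q.1 q.2)).toFinset))
    fun g g' e => ?_) ?_)
  · obtain ⟨a1, a2⟩ := image_three hπ (m := ⟨g * a * g⁻¹, hmem _ (ha.conj g)⟩) (ha.conj g)
    obtain ⟨b1, b2⟩ := image_three hπ (m := ⟨g * b * g⁻¹, hmem _ (hb.conj g)⟩) (hb.conj g)
    have hpos : IsPos (g * a * g⁻¹) (g * b * g⁻¹) := by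
      have e1 : g * a * g⁻¹ * (g * b * g⁻¹) * (g * a * g⁻¹ * (g * b * g⁻¹)) =
          g * (a * b * (a * b)) * g⁻¹ := by group
      refine ⟨fun e2 => hab.1 (conj_eq_one_iff.mp (e1 ▸ e2)), ?_⟩
      rw [e1, show g * (a * b * (a * b)) * g⁻¹ * (g * (a * b * (a * b)) * g⁻¹) =
        g * (a * b * (a * b) * (a * b * (a * b))) * g⁻¹ by group, hab.2]
      group
    simp only [List.mem_toFinset, List.mem_filter, List.mem_product, decide_eq_true_eq]
    exact ⟨⟨mem_fourThrees _ a1 a2, mem_fourThrees _ b1 b2⟩, (pos_iff hπ).1 hpos⟩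
  · simp only [Subtype.mk.injEq, Prod.mk.injEq] at e
    have ea := congrArg Subtype.val (image_injOn h hπ (ha.conj g) (ha.conj g') e.1)
    have eb := congrArg Subtype.val (image_injOn h hπ (hb.conj g) (hb.conj g') e.2)
    have hc : ∀ x, g * x * g⁻¹ = g' * x * g'⁻¹ → Commute (g⁻¹ * g') x := fun x hx => by
      calc g⁻¹ * g' * x = g⁻¹ * (g' * x * g'⁻¹) * g' := by group
        _ = g⁻¹ * (g * x * g⁻¹) * g' := by rw [hx]
        _ = x * (g⁻¹ * g') := by group
    have hle : T ≤ Subgroup.centralizer {g⁻¹ * g'} := by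
      rw [hTdef]
      refine (Subgroup.closure_le _).mpr ?_
      rintro v (rfl | rfl) <;>
        simp only [SetLike.mem_coe, Subgroup.mem_centralizer_singleton_iff]
      · exact (hc _ ea).eq.symm
      · exact (hc _ eb).eq.symm
    exact Subgroup.mem_centralizer_iff.mpr fun x hx =>
      Subgroup.mem_centralizer_singleton_iff.mp (hle (hmem x hx))
  · rw [Nat.card_eq_fintype_card, Fintype.card_coe]
    exact card_pos_pairs

theorem exists_twoA5 (hns : ¬ Group.IsSolvable G) : ∃ L : Subgroup G, IsTwoA5 L ∧ L.Normal := by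
  by_contra hne
  push Not at hne
  exact hns (isSolvable_of_no_twoA5 h fun L hL => hne L hL (hL.normal h))

end Cfsg.Agent.Lib.Zass25
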