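import Cfsg.Agent.Lib.Zass25.Setup
import Cfsg.Agent.Lib.Zass25.Solvable

/-!
A non-soluble fixed-point-free group has a normal `SL(2,5)`, whose centraliser and product with
it are small.
-/

set_option autoImplicit false

namespace Cfsg.Agent.Lib.Zass25

open scoped Pointwise

theorem alternating_five_not_solvable : ¬ Group.IsSolvable (alternatingGroup (Fin 5)) := by
  intro hs
  apply Equiv.Perm.fin_5_not_solvable
  have : Group.IsSolvable (Equiv.Perm (Fin 5) ⧸ alternatingGroup (Fin 5)) :=
    S3378.isSolvable_of_card_lt _ _ rfl (by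
      rw [← Subgroup.index_eq_card, alternatingGroup.index_eq_two]; norm_num)
  exact Group.isSolvable_of_ker_le_range (alternatingGroup (Fin 5)).subtype
    (QuotientGroup.mk' (alternatingGroup (Fin 5))) (by simp)

theorem perm_five_no_four : ∀ s : Equiv.Perm (Fin 5),
    Equiv.Perm.sign s = 1 → s * s * (s * s) = 1 → s * s = 1 := by
  decide +kernel

variable {G : Type*} [Group G] [Finite G]

theorem IsTwoA5.not_solvable {L : Subgroup G} (hL : IsTwoA5 L) : ¬ Group.IsSolvable L := by
  obtain ⟨-, π, -, hr⟩ := hL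
  intro hs
  apply alternating_five_not_solvable
  rw [← hr]
  exact Group.isSolvable_of_surjective π.rangeRestrict_surjective

theorem IsTwoA5.map_subtype {C : Subgroup G} {K : Subgroup C} (hK : IsTwoA5 K) :
    IsTwoA5 (K.map C.subtype) := by
  obtain ⟨hc, π, hπ, hr⟩ := hK
  let e := K.equivMapOfInjective C.subtype C.subtype_injective
  refine ⟨by rw [← hc]; exact Nat.card_congr e.toEquiv.symm, π.comp e.symm.toMonoidHom,
    fun m => ?_, ?_⟩
  · rw [MonoidHom.comp_apply, hπ, ← map_mul]
    exact map_eq_one_iff _ e.symm.injective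
  · rw [← hr, MonoidHom.range_comp, MonoidHom.range_eq_top.mpr e.symm.surjective,
      MonoidHom.range_eq_map]

variable (h : HasFpfRep G)
include h

theorem IsTwoA5.nonempty_mulEquiv {L : Subgroup G} (hL : IsTwoA5 L) :
    Nonempty (L ≃* Matrix.SpecialLinearGroup (Fin 2) (ZMod 5)) := by
  have hns := hL.not_solvable
  obtain ⟨hcard, π, hπ, hr⟩ := hL
  refine S3378.result.1 L hcard hns fun P => ?_
  have hP : Nat.card (P : Subgroup L) = 8 := by
    rw [P.card_eq_multiplicity, hcard,
      show (120 : ℕ).factorization 2 = 3 by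
        rw [Nat.factorization_def _ Nat.prime_two,
          show (120 : ℕ) = 2 ^ 3 * 15 by norm_num, padicValNat.mul (by norm_num) (by norm_num),
          padicValNat.prime_pow, padicValNat.eq_zero_of_not_dvd (by norm_num)]]
    norm_num
  rcases sylow_cyclic_or_quaternion (h.subgroup L) P with hc | ⟨-, n, ⟨e⟩⟩
  · exfalso
    obtain ⟨x, hx⟩ := IsCyclic.exists_ofOrder_eq_natCard (α := (P : Subgroup L))
    rw [hP] at hx
    have h8 : (x : L) ^ 8 = 1 := by
      rw [← Subgroup.coe_pow, ← Subgroup.coe_one]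
      exact congrArg Subtype.val (hx ▸ pow_orderOf_eq_one x)
    have h4 : (x : L) ^ 4 ≠ 1 := fun e => by
      have : orderOf x ∣ 4 := orderOf_dvd_of_pow_eq_one (Subtype.ext e)
      rw [hx] at this
      norm_num at this
    have h1 : π (x : L) * π (x : L) * (π (x : L) * π (x : L)) = 1 := by
      rw [← map_mul, ← map_mul]
      refine (hπ _).2 ?_
      simpa [pow_succ, mul_assoc] using h8
    have hs : Equiv.Perm.sign (π (x : L)) = 1 :=
      Equiv.Perm.mem_alternatingGroup.mp (hr ▸ ⟨_, rfl⟩)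
    have h2 := perm_five_no_four _ hs h1
    rw [← map_mul, hπ] at h2
    apply h4
    simpa [pow_succ, mul_assoc] using h2
  · have hn : n = 1 := by
      have := Nat.card_congr e.toEquiv
      rw [hP, Nat.card_eq_fintype_card, QuaternionGroup.card] at this
      have h2 : (2 : ℕ) ^ n = 2 := by omega
      exact Nat.pow_right_injective le_rfl (h2.trans (pow_one 2).symm)
    subst hn
    exact ⟨e⟩

/-- Every nonsoluble fixed-point-free group has a normal subgroup isomorphic to `SL(2,5)`. -/
theorem exists_normal_sl25 (hns : ¬ Group.IsSolvable G) :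
    ∃ L : Subgroup G, L.Normal ∧ IsTwoA5 L ∧
      Nonempty (L ≃* Matrix.SpecialLinearGroup (Fin 2) (ZMod 5)) := by
  obtain ⟨L, hL, hLn⟩ := exists_twoA5 h hns
  exact ⟨L, hLn, hL, hL.nonempty_mulEquiv h⟩

omit [Finite G] in
theorem exists_central_involution {L : Subgroup G} (hL : IsTwoA5 L) [Finite G] :
    ∃ z ∈ L, z ≠ 1 ∧ z * z = 1 := by
  obtain ⟨a, haL, ha⟩ := hL.exists_three h
  obtain ⟨b, hbL, -, hab⟩ := hL.exists_pos h haL ha
  exact ⟨_, mul_mem (mul_mem haL hbL) (mul_mem haL hbL), hab.1, hab.2⟩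

theorem sq_eq_one_of_mem_centralizer {L : Subgroup G} (hL : IsTwoA5 L) {c : G} (hc : c ∈ L)
    (hc' : c ∈ Subgroup.centralizer (L : Set G)) : c * c = 1 := by
  have hL' := hL
  obtain ⟨-, π, hπ, hr⟩ := hL
  refine congrArg Subtype.val ((hπ ⟨c, hc⟩).1 ?_)
  have hcen : ∀ s : Equiv.Perm (Fin 5), (∀ u ∈ threes, u * s = s * u) → s = 1 := by decide +kernel
  refine hcen _ fun u hu => ?_
  obtain ⟨m, -, rfl⟩ := IsTwoA5.exists_three_eq h π hπ hr hu
  rw [← map_mul, ← map_mul]
  exact congrArg π (Subtype.ext (Subgroup.mem_centralizer_iff.mp hc' m m.2))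

theorem centralizer_inf {L : Subgroup G} (hL : IsTwoA5 L) :
    Nat.card (L ⊓ Subgroup.centralizer (L : Set G) : Subgroup G) = 2 := by
  obtain ⟨z, hzL, hz1, hz2⟩ := exists_central_involution h hL
  have hzC : z ∈ Subgroup.centralizer (L : Set G) :=
    Subgroup.mem_centralizer_iff.mpr fun x _ => involution_central h hz1 hz2 x
  rw [Nat.card_eq_two_iff]
  refine ⟨⟨1, one_mem _⟩, ⟨z, hzL, hzC⟩, fun e => hz1 (congrArg Subtype.val e).symm,
    Set.eq_univ_of_forall fun c => ?_⟩
  have h2 := sq_eq_one_of_mem_centralizer h hL c.2.1 c.2.2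
  rcases eq_or_ne (c : G) 1 with e | e
  · exact Or.inl (Subtype.ext e)
  · exact Or.inr (Subtype.ext (involution_eq h e h2 hz1 hz2))

theorem centralizer_solvable {L : Subgroup G} (hL : IsTwoA5 L) :
    Group.IsSolvable (Subgroup.centralizer (L : Set G)) := by
  refine isSolvable_of_no_twoA5 (h.subgroup _) fun K hK => ?_
  obtain ⟨a, haL, ha⟩ := hL.exists_three h
  have hle : L ≤ Subgroup.centralizer (L : Set G) :=
    (isTwoA5_unique h hK.map_subtype hL).symm.le.trans (Subgroup.map_subtype_le K)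
  obtain ⟨b, hbL, hb, hab⟩ := hL.exists_pos h haL ha
  exact not_commute_of_isPos ha.1 hb.1 hab (Subgroup.mem_centralizer_iff.mp (hle hbL) a haL)

omit [Group G] [Finite G] h in
theorem card_triangles : ((threes ×ˢ threes ×ˢ threes).filter
    fun q => decide (Pos q.1 q.2.1 ∧ Pos q.1 q.2.2 ∧ Pos q.2.1 q.2.2)).toFinset.card ≤ 120 := by
  decide +kernel

theorem index_centralizer_le {L : Subgroup G} (hL : IsTwoA5 L) :
    (Subgroup.centralizer (L : Set G)).index ≤ 120 := by
  obtain ⟨a, haL, ha⟩ := hL.exists_three h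
  obtain ⟨b, hbL, hb, hab⟩ := hL.exists_pos h haL ha
  obtain ⟨c, hcL, hc, hac, hbc⟩ := hL.common h haL hbL ha hb hab
  have hgen : Subgroup.closure {a, b, c} = L := eq_of_isTwoA5 (triangle h ha hb hc hab hac hbc) hL
    ((Subgroup.closure_le L).mpr (by simp [Set.insert_subset_iff, haL, hbL, hcL]))
  have hL' := hL
  obtain ⟨-, π, hπ, -⟩ := hL
  have hm : ∀ {x : G}, IsThree x → ∀ g : G, g * x * g⁻¹ ∈ L :=
    fun hx g => three_mem h hL' (hx.conj g)
  have hpos : ∀ {x y : G}, IsPos x y → ∀ g : G, IsPos (g * x * g⁻¹) (g * y * g⁻¹) := by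
    intro x y hxy g
    have e1 : g * x * g⁻¹ * (g * y * g⁻¹) * (g * x * g⁻¹ * (g * y * g⁻¹)) =
        g * (x * y * (x * y)) * g⁻¹ := by group
    refine ⟨fun e2 => hxy.1 (conj_eq_one_iff.mp (e1 ▸ e2)), ?_⟩
    rw [e1, show g * (x * y * (x * y)) * g⁻¹ * (g * (x * y * (x * y)) * g⁻¹) =
      g * (x * y * (x * y) * (x * y * (x * y))) * g⁻¹ by group, hxy.2]
    group
  refine le_trans (index_le_of_injOn _ (fun g =>
    (⟨(π ⟨_, hm ha g⟩, π ⟨_, hm hb g⟩, π ⟨_, hm hc g⟩), ?_⟩ :
      ((threes ×ˢ threes ×ˢ threes).filter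
        fun q => decide (Pos q.1 q.2.1 ∧ Pos q.1 q.2.2 ∧ Pos q.2.1 q.2.2)).toFinset))
    fun g g' e => ?_) ?_
  · have i : ∀ {x : G} (hx : IsThree x), π ⟨_, hm hx g⟩ ∈ threes := fun hx =>
      mem_threes _ (image_three hπ (m := ⟨_, hm hx g⟩) (hx.conj g)).1
        (image_three hπ (m := ⟨_, hm hx g⟩) (hx.conj g)).2
    simp only [List.mem_toFinset, List.mem_filter, List.mem_product, decide_eq_true_eq]
    exact ⟨⟨i ha, i hb, i hc⟩, (pos_iff hπ).1 (hpos hab g), (pos_iff hπ).1 (hpos hac g),
      (pos_iff hπ).1 (hpos hbc g)⟩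
  · simp only [Subtype.mk.injEq, Prod.mk.injEq] at e
    have ea := congrArg Subtype.val (image_injOn h hπ (ha.conj g) (ha.conj g') e.1)
    have eb := congrArg Subtype.val (image_injOn h hπ (hb.conj g) (hb.conj g') e.2.1)
    have ec := congrArg Subtype.val (image_injOn h hπ (hc.conj g) (hc.conj g') e.2.2)
    have hcm : ∀ x, g * x * g⁻¹ = g' * x * g'⁻¹ → g⁻¹ * g' * x = x * (g⁻¹ * g') := fun x hx => by
      calc g⁻¹ * g' * x = g⁻¹ * (g' * x * g'⁻¹) * g' := by group
        _ = g⁻¹ * (g * x * g⁻¹) * g' := by rw [hx]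
        _ = x * (g⁻¹ * g') := by group
    have hle : L ≤ Subgroup.centralizer {g⁻¹ * g'} := by
      rw [← hgen]
      refine (Subgroup.closure_le _).mpr ?_
      rintro v (rfl | rfl | rfl) <;>
        simp only [SetLike.mem_coe, Subgroup.mem_centralizer_singleton_iff]
      · exact (hcm _ ea).symm
      · exact (hcm _ eb).symm
      · exact (hcm _ ec).symm
    exact Subgroup.mem_centralizer_iff.mpr fun x hx =>
      Subgroup.mem_centralizer_singleton_iff.mp (hle hx)
  · rw [Nat.card_eq_fintype_card, Fintype.card_coe]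
    exact card_triangles

theorem index_sup_centralizer_le {L : Subgroup G} (hL : IsTwoA5 L) :
    (L ⊔ Subgroup.centralizer (L : Set G)).index ≤ 2 := by
  have := hL.normal h
  set C := Subgroup.centralizer (L : Set G) with hC
  have hCn : C.Normal := Subgroup.normal_centralizer
  have h1 : C.relIndex (L ⊔ C) = C.relIndex L := Subgroup.relIndex_sup_right _ _
  have h2 : C.relIndex L * 2 = 120 := by
    have e := Subgroup.relIndex_mul_relIndex ⊥ (L ⊓ C) L bot_le inf_le_left
    rw [Subgroup.relIndex_bot_left, Subgroup.relIndex_bot_left, Subgroup.inf_relIndex_left, hC,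
      centralizer_inf h hL, hL.1, mul_comm] at e
    exact e
  have h3 := Subgroup.relIndex_mul_index (le_sup_right : C ≤ L ⊔ C)
  have h4 := index_centralizer_le h hL
  rw [h1] at h3
  rw [← hC, ← h3] at h4
  nlinarith

/-- A perfect nontrivial fixed-point-free group is `SL(2,5)`. -/
theorem nonempty_mulEquiv_of_perfect [Nontrivial G] (hperf : commutator G = ⊤) :
    Nonempty (G ≃* Matrix.SpecialLinearGroup (Fin 2) (ZMod 5)) := by
  have hsolv : ∀ (Q : Type _) [Group Q] [Group.IsSolvable Q] (f : G →* Q),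
      Function.Surjective f → Subsingleton Q := by
    intro Q _ _ f hf
    by_contra hne
    rw [not_subsingleton_iff_nontrivial] at hne
    refine (Group.IsSolvable.commutator_lt_top_of_nontrivial Q).ne ?_
    rw [commutator_def, ← Subgroup.map_top_of_surjective f hf, ← Subgroup.map_commutator,
      ← commutator_def, hperf]
  have hns : ¬ Group.IsSolvable G := fun hs =>
    not_nontrivial_iff_subsingleton.mpr (hsolv G (MonoidHom.id G) Function.surjective_id) ‹_›
  obtain ⟨L, hLn, hL, ⟨e⟩⟩ := exists_normal_sl25 h hns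
  have := hLn
  set C := Subgroup.centralizer (L : Set G) with hC
  have hCn : C.Normal := Subgroup.normal_centralizer
  have : Group.IsSolvable (G ⧸ (L ⊔ C)) := S3378.isSolvable_of_card_lt _ _ rfl (by
    rw [← Subgroup.index_eq_card]; have := index_sup_centralizer_le h hL; rw [← hC] at this; omega)
  have hsup : L ⊔ C = ⊤ :=
    (QuotientGroup.subsingleton_iff).mp (hsolv _ (QuotientGroup.mk' (L ⊔ C))
      (QuotientGroup.mk'_surjective _))
  have := centralizer_solvable h hL
  rw [← hC] at this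
  have hsurj : Function.Surjective ((QuotientGroup.mk' L).comp C.subtype) := by
    intro q
    obtain ⟨x, rfl⟩ := QuotientGroup.mk'_surjective L q
    have hx : x ∈ ((L : Set G) * (C : Set G)) := by rw [← Subgroup.normal_mul, hsup]; trivial
    obtain ⟨l, hl, c, hc, rfl⟩ := hx
    refine ⟨⟨c, hc⟩, ?_⟩
    show (QuotientGroup.mk' L) c = QuotientGroup.mk' L (l * c)
    rw [map_mul, show QuotientGroup.mk' L l = 1 from (QuotientGroup.eq_one_iff l).mpr hl, one_mul]
  have : Group.IsSolvable (G ⧸ L) := Group.isSolvable_of_surjective hsurj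
  have htop : L = ⊤ := QuotientGroup.subsingleton_iff.mp
    (hsolv _ (QuotientGroup.mk' L) (QuotientGroup.mk'_surjective _))
  exact ⟨(Subgroup.topEquiv.symm.trans (MulEquiv.subgroupCongr htop.symm)).trans e⟩

omit h in
/-- A nonsoluble Frobenius complement has a normal subgroup isomorphic to `SL(2,5)`. -/
theorem exists_normal_sl25_of_complement (hC : Frobenius.OccursAsComplement G)
    (hns : ¬ Group.IsSolvable G) : ∃ L : Subgroup G, L.Normal ∧
      Nonempty (L ≃* Matrix.SpecialLinearGroup (Fin 2) (ZMod 5)) := by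
  obtain ⟨L, h1, -, h3⟩ := exists_normal_sl25 (hasFpfRep_of_occursAsComplement hC) hns
  exact ⟨L, h1, h3⟩

end Cfsg.Agent.Lib.Zass25
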