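import Cfsg.Agent.Lib.Zass25.Classify
import Cfsg.Agent.Lib.FrobRep.FromComplement
import Cfsg.Agent.Lib.FrobRep.Lifting
import Cfsg.Agent.Lib.Frobenius.Abstract

/-!
Frobenius complements have fixed-point-free representations over an algebraic closure of a prime field.
-/

set_option autoImplicit false

namespace Cfsg.Agent.Lib.Zass25

theorem hasFpfRep_of_hasFreeModule {G : Type*} [Group G] {r : ℕ} [Fact r.Prime]
    (hrG : ¬ r ∣ Nat.card G) (h : FrobRep.HasFreeModule r G) : HasFpfRep G := by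
  classical
  obtain ⟨V, _, _, _, ρ, hV, hρ⟩ := h
  letI := AddCommGroup.zmodModule (n := r) (G := V) hV
  have : Module.Finite (ZMod r) V := Module.Finite.of_finite
  let n := Module.finrank (ZMod r) V
  let b : Module.Basis (Fin n) (ZMod r) V := Module.finBasis (ZMod r) V
  let θ : G →* Matrix (Fin n) (Fin n) (ZMod r) :=
    ((LinearMap.toMatrixAlgEquiv b : Module.End (ZMod r) V ≃ₐ[ZMod r] _) :
      _ →* Matrix (Fin n) (Fin n) (ZMod r)).comp (FrobRep.zmodEnd r ρ)
  let Fb := AlgebraicClosure (ZMod r)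
  let i : ZMod r →+* Fb := algebraMap _ _
  let τ : G →* Module.End Fb (Fin n → Fb) :=
    ((Matrix.toLinAlgEquiv' : Matrix (Fin n) (Fin n) Fb ≃ₐ[Fb] _) : _ →* Module.End Fb (Fin n → Fb)).comp
      ((i.mapMatrix (m := Fin n)).toMonoidHom.comp θ)
  refine ⟨r, inferInstance, n, τ, Module.finrank_pos, hrG, fun g hg v hv => ?_⟩
  by_contra hv0
  have hA : ((i.mapMatrix (θ g)) - 1).det = 0 := by
    refine Matrix.exists_mulVec_eq_zero_iff.mp ⟨v, hv0, ?_⟩
    rw [Matrix.sub_mulVec, Matrix.one_mulVec, sub_eq_zero]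
    exact hv
  rw [← map_one i.mapMatrix, ← map_sub, ← RingHom.map_det, map_eq_zero] at hA
  obtain ⟨w, hw0, hw⟩ := Matrix.exists_mulVec_eq_zero_iff.mpr hA
  rw [Matrix.sub_mulVec, Matrix.one_mulVec, sub_eq_zero] at hw
  let u := b.equivFun.symm w
  have hu : ρ g u = u := by
    have h1 := LinearMap.toMatrix_mulVec_repr b b (FrobRep.zmodEnd r ρ g) u
    have h2 : (b.repr u : Fin n → ZMod r) = w := b.equivFun.apply_symm_apply w
    rw [h2] at h1
    exact b.repr.injective (DFunLike.coe_injective (h1.symm.trans (hw.trans h2.symm)))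
  refine hw0 ?_
  have := hρ g hg u hu
  exact b.equivFun.symm.injective (this.trans (map_zero _).symm)

theorem hasFpfRep_of_occursAsComplement {G : Type*} [Group G]
    (h : Frobenius.OccursAsComplement G) : HasFpfRep G := by
  obtain ⟨L, _, _, H, hH, ⟨e⟩⟩ := h
  obtain ⟨q, hq, hqH, hmod⟩ := FrobRep.hasFreeModule_of_isFrobeniusComplement hH
  have := Fact.mk hq
  exact hasFpfRep_of_hasFreeModule (fun hd => hqH (Nat.card_congr e.toEquiv ▸ hd))
    (hmod.comap e.toMonoidHom e.injective)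

end Cfsg.Agent.Lib.Zass25
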