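import Cfsg.Agent.Lib.Zass25.Structure

/-!
The centraliser of the normal `SL(2,5)` is a Z-group with an odd part of order prime to thirty.
-/

set_option autoImplicit false

namespace Cfsg.Agent.Lib.Zass25

open scoped Pointwise

variable {G : Type*} [Group G] [Finite G] (h : HasFpfRep G)
include h

theorem centralizer_sq {L : Subgroup G} (hL : IsTwoA5 L) {c : G}
    (hc : c ∈ Subgroup.centralizer (L : Set G)) (h4 : c * c * (c * c) = 1) : c * c = 1 := by
  obtain ⟨a, haL, ha⟩ := hL.exists_three h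
  obtain ⟨b, hbL, hb, hab⟩ := hL.exists_pos h haL ha
  by_contra h2
  apply h2
  refine sq_eq_one_of_mem_centralizer h hL ?_ hc
  have ec : c * c = a * b * (a * b) := involution_eq h h2 h4 hab.1 hab.2
  have hic : Commute (a * b) c :=
    Subgroup.mem_centralizer_iff.mp hc _ (mul_mem haL hbL)
  have h1 : a * b * c * (a * b * c) = 1 := by
    rw [hic.symm.mul_mul_mul_comm, ec, hab.2]
  rcases eq_or_ne (a * b * c) 1 with e | e
  · rw [eq_inv_of_mul_eq_one_right e]; exact inv_mem (mul_mem haL hbL)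
  · rw [eq_inv_mul_of_mul_eq (involution_eq h e h1 hab.1 hab.2)]
    exact mul_mem (inv_mem (mul_mem haL hbL)) (mul_mem (mul_mem haL hbL) (mul_mem haL hbL))

theorem centralizer_sylow_two {L : Subgroup G} (hL : IsTwoA5 L)
    (P : Sylow 2 (Subgroup.centralizer (L : Set G))) {z : G} (hz1 : z ≠ 1) (hz2 : z * z = 1) :
    (P : Subgroup (Subgroup.centralizer (L : Set G))).map (Subgroup.subtype _) ≤ Subgroup.zpowers z := by
  rintro _ ⟨c, hcP, rfl⟩
  obtain ⟨k, hk⟩ := P.2 ⟨c, hcP⟩
  have hk' : (c : G) ^ 2 ^ k = 1 :=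
    congrArg (fun u : (P : Subgroup (Subgroup.centralizer (L : Set G))) => ((u : _) : G)) hk
  have hall2 : ∀ j, ∀ d ∈ Subgroup.centralizer (L : Set G), d ^ 2 ^ j = 1 → d * d = 1 := by
    intro j
    induction j with
    | zero => intro d _ hd; rw [pow_zero, pow_one] at hd; simp [hd]
    | succ j ih =>
      intro d hd hd1
      rw [pow_succ', pow_mul, pow_two] at hd1
      exact centralizer_sq h hL hd (ih _ (mul_mem hd hd) hd1)
  show (c : G) ∈ _
  rcases eq_or_ne (c : G) 1 with e | e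
  · rw [e]; exact one_mem _
  · rw [involution_eq h e (hall2 k _ c.2 hk') hz1 hz2]; exact Subgroup.mem_zpowers _

theorem centralizer_isZGroup {L : Subgroup G} (hL : IsTwoA5 L) :
    IsZGroup (Subgroup.centralizer (L : Set G)) := by
  obtain ⟨z, -, hz1, hz2⟩ := exists_central_involution h hL
  refine isZGroup_of_two (h.subgroup _) fun P => ?_
  have := Subgroup.isCyclic_of_le (centralizer_sylow_two h hL P hz1 hz2)
  exact ((P : Subgroup (Subgroup.centralizer (L : Set G))).equivMapOfInjective _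
    (Subgroup.subtype_injective _)).isCyclic.mpr this

theorem centralizer_not_dvd {L : Subgroup G} (hL : IsTwoA5 L) {q : ℕ} (hq : q.Prime) (hq2 : q ≠ 2)
    (hqL : q ∣ 120) : ¬ q ∣ Nat.card (Subgroup.centralizer (L : Set G)) := by
  intro hd
  have := Fact.mk hq
  obtain ⟨y, hy⟩ := exists_prime_orderOf_dvd_card' q hd
  obtain ⟨x, hx⟩ := exists_prime_orderOf_dvd_card' (G := L) q (by rw [hL.1]; exact hqL)
  have hyG : (y : G) ^ q = 1 := congrArg Subtype.val (hy ▸ pow_orderOf_eq_one y)
  have hxG : (x : G) ^ q = 1 := congrArg Subtype.val (hx ▸ pow_orderOf_eq_one x)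
  have hx1 : (x : G) ≠ 1 := fun e => hq.ne_one (by
    rw [← hx, orderOf_eq_one_iff]; exact Subtype.ext e)
  have hyL : (y : G) ∈ L := (Subgroup.zpowers_le.mpr x.2)
    (mem_zpowers_of_commute h hq hxG hx1 hyG (Subgroup.mem_centralizer_iff.mp y.2 x x.2).symm)
  have h2 := sq_eq_one_of_mem_centralizer h hL hyL y.2
  have : orderOf y ∣ 2 := orderOf_dvd_of_pow_eq_one (Subtype.ext (by
    rw [Subgroup.coe_pow, pow_two]; exact h2))
  rw [hy] at this
  exact hq2 ((Nat.prime_dvd_prime_iff_eq hq Nat.prime_two).mp this)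

/-- The decomposition of a nonsoluble fixed-point-free group. -/
theorem exists_decomposition {L : Subgroup G} (hL : IsTwoA5 L) :
    ∃ M : Subgroup G, M.Normal ∧ M ≤ Subgroup.centralizer (L : Set G) ∧ L ⊓ M = ⊥ ∧
      IsZGroup M ∧ (Nat.card M).Coprime 30 ∧
      L ⊔ M = L ⊔ Subgroup.centralizer (L : Set G) ∧ (L ⊔ M).index ≤ 2 := by
  have hLn := hL.normal h
  set C := Subgroup.centralizer (L : Set G) with hC
  have hCn : C.Normal := Subgroup.normal_centralizer
  have hZ : IsZGroup C := centralizer_isZGroup h hL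
  obtain ⟨z, hzL, hz1, hz2⟩ := exists_central_involution h hL
  have hzC : z ∈ C := Subgroup.mem_centralizer_iff.mpr fun x _ => involution_central h hz1 hz2 x
  let P : Sylow 2 C := default
  have hP := centralizer_sylow_two h hL P hz1 hz2
  have h2C : 2 ∣ Nat.card C := by
    have e : orderOf (⟨z, hzC⟩ : C) = 2 :=
      orderOf_eq_prime (Subtype.ext (by rw [Subgroup.coe_pow, pow_two]; exact hz2))
        (fun e => hz1 (congrArg Subtype.val e))
    exact e ▸ orderOf_dvd_natCard _
  have hcyc : IsCyclic (P : Subgroup C) := hZ.isZGroup 2 Nat.prime_two P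
  have hmin : (Nat.card C).minFac = 2 := Nat.minFac_eq_two_iff _ |>.mpr h2C
  set N := (MonoidHom.transferSylow P (hcyc.normalizer_le_centralizer hmin)).ker
  have hc : N.IsComplement' (P : Subgroup C) := hcyc.isComplement' hmin
  have hodd : ¬ 2 ∣ Nat.card N := fun hd => P.not_dvd_index (hc.index_eq_card ▸ hd)
  have hidx : N.index = 2 := by
    rw [hc.symm.index_eq_card]
    obtain ⟨k, hk⟩ := P.2.exists_card_eq
    have h1 : Nat.card (P : Subgroup C) ∣ 2 := by
      rw [Nat.card_congr ((P : Subgroup C).equivMapOfInjective _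
        C.subtype_injective).toEquiv]
      refine (Subgroup.card_dvd_of_le hP).trans (dvd_of_eq ?_)
      rw [Nat.card_zpowers, orderOf_eq_prime (p := 2) (by rw [pow_two]; exact hz2) hz1]
    rcases (Nat.dvd_prime Nat.prime_two).mp h1 with e | e
    · exact absurd h2C (fun hd => hodd (by rwa [← hc.card_mul_card, e, mul_one] at hd))
    · exact e
  refine ⟨N.map C.subtype, ?_, Subgroup.map_subtype_le N, ?_, ?_, ?_, ?_, ?_⟩
  · refine ⟨?_⟩
    rintro _ ⟨x, hx, rfl⟩ g
    refine ⟨⟨g * x * g⁻¹, hCn.conj_mem _ x.2 g⟩, ?_, rfl⟩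
    set y : C := ⟨g * x * g⁻¹, hCn.conj_mem _ x.2 g⟩
    have hy : y ^ Nat.card N = 1 := Subtype.ext (by
      show (g * (x : G) * g⁻¹) ^ Nat.card N = 1
      rw [conj_pow]
      have : (x : G) ^ Nat.card N = 1 :=
        congrArg (fun u : N => ((u : C) : G)) (pow_card_eq_one' (x := (⟨x, hx⟩ : N)))
      rw [this, mul_one, mul_inv_cancel])
    rw [SetLike.mem_coe, ← QuotientGroup.eq_one_iff y]
    have h1 : (QuotientGroup.mk' N y) ^ Nat.card N = 1 := by rw [← map_pow, hy, map_one]
    have h2 : (QuotientGroup.mk' N y) ^ 2 = 1 := by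
      have := pow_card_eq_one' (x := QuotientGroup.mk' N y)
      rwa [← Subgroup.index_eq_card, hidx] at this
    have := pow_gcd_eq_one.mpr (⟨h2, h1⟩ : _ ∧ _)
    rwa [(Nat.prime_two.coprime_iff_not_dvd.mpr hodd), pow_one] at this
  · rw [eq_bot_iff]
    rintro x ⟨hxL, ⟨y, hy, rfl⟩⟩
    have h2 := sq_eq_one_of_mem_centralizer h hL hxL y.2
    have h1 : (y : G) ^ Nat.card N = 1 :=
      congrArg (fun u : N => ((u : C) : G)) (pow_card_eq_one' (x := (⟨y, hy⟩ : N)))
    have := pow_gcd_eq_one.mpr (⟨(pow_two (y : G)).trans h2, h1⟩ : _ ∧ _)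
    rw [(Nat.prime_two.coprime_iff_not_dvd.mpr hodd), pow_one] at this
    exact Subgroup.mem_bot.mpr this
  · exact IsZGroup.of_injective (f := (N.equivMapOfInjective _ C.subtype_injective).symm.toMonoidHom)
      (MulEquiv.injective _)
  · rw [← Nat.card_congr (N.equivMapOfInjective _ C.subtype_injective).toEquiv]
    have h3 : ¬ 3 ∣ Nat.card N := fun hd => centralizer_not_dvd h hL Nat.prime_three (by norm_num)
      (by norm_num) (hd.trans (Subgroup.card_subgroup_dvd_card N))
    have h5 : ¬ 5 ∣ Nat.card N := fun hd => centralizer_not_dvd h hL (q := 5) (by norm_num)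
      (by norm_num) (by norm_num) (hd.trans (Subgroup.card_subgroup_dvd_card N))
    rw [show 30 = 2 * 3 * 5 by rfl]
    exact (Nat.Coprime.mul_right ((Nat.prime_two.coprime_iff_not_dvd.mpr hodd).symm)
      (Nat.prime_three.coprime_iff_not_dvd.mpr h3).symm).mul_right
      ((Nat.Prime.coprime_iff_not_dvd (by norm_num : Nat.Prime 5)).mpr h5).symm
  · refine le_antisymm (sup_le_sup_left (Subgroup.map_subtype_le N) L) (sup_le le_sup_left ?_)
    intro c hcC
    obtain ⟨⟨n, p⟩, hnp⟩ := hc.2 ⟨c, hcC⟩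
    have hp : ((p : C) : G) ∈ L :=
      (Subgroup.zpowers_le.mpr hzL) (hP ⟨p, p.2, rfl⟩)
    have e : c = ((n : C) : G) * ((p : C) : G) := (congrArg Subtype.val hnp).symm
    rw [e]
    exact mul_mem (Subgroup.mem_sup_right ⟨n, n.2, rfl⟩) (Subgroup.mem_sup_left hp)
  · have hle : L ⊔ C ≤ L ⊔ N.map C.subtype := by
      refine sup_le le_sup_left fun c hcC => ?_
      obtain ⟨⟨n, p⟩, hnp⟩ := hc.2 ⟨c, hcC⟩
      have hp : ((p : C) : G) ∈ L :=
        (Subgroup.zpowers_le.mpr hzL) (hP ⟨p, p.2, rfl⟩)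
      have e : c = ((n : C) : G) * ((p : C) : G) := (congrArg Subtype.val hnp).symm
      rw [e]
      exact mul_mem (Subgroup.mem_sup_right ⟨n, n.2, rfl⟩) (Subgroup.mem_sup_left hp)
    rw [le_antisymm (sup_le_sup_left (Subgroup.map_subtype_le N) L) hle]
    exact index_sup_centralizer_le h hL

end Cfsg.Agent.Lib.Zass25
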