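import Cfsg.Agent.Lib.Zass25.Linear
import Cfsg.Agent.Lib.Zass25.Decompose
import Cfsg.Agent.Lib.SolvLinear.Field

/-!
Insoluble regular linear groups: the three exceptional orders.
-/

set_option autoImplicit false

namespace Cfsg.Agent.Lib.Zass25

open SolvLinear

/-- The decidable search. -/
def admissible (p k d e : ℕ) : Bool :=
  let T := p ^ (k * d) - 1
  let m := T / (120 * e)
  decide (T % (120 * e) = 0) && decide (Nat.gcd m 30 = 1) &&
    decide (m ≤ k * Nat.gcd m (p ^ k - 1))

/-- The expected answers. -/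
def expected (p k d e : ℕ) : Bool :=
  let m := (p ^ (k * d) - 1) / (120 * e)
  decide (k * d = 2) && decide (e = 1) && ((decide (p = 11) && decide (m = 1)) ||
    (decide (p = 29) && decide (m = 7)) || (decide (p = 59) && decide (m = 29)) ||
    decide (p = 119))

theorem search : ((List.range' 7 233).all fun p => (List.range' 1 3).all fun k =>
    (List.range' 2 2).all fun d => (List.range' 1 2).all fun e =>
      !admissible p k d e || expected p k d e || decide (p = 119)) = true := by
  decide +kernel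

theorem arith_check (p k d e : ℕ) (hp : p < 240) (hp' : 7 ≤ p) (hk : k < 4) (hk' : 1 ≤ k)
    (hd : d < 4) (hd' : 2 ≤ d) (he : e < 3) (he' : 1 ≤ e)
    (h1 : (p ^ (k * d) - 1) % (120 * e) = 0)
    (h2 : Nat.gcd ((p ^ (k * d) - 1) / (120 * e)) 30 = 1)
    (h3 : (p ^ (k * d) - 1) / (120 * e) ≤
      k * Nat.gcd ((p ^ (k * d) - 1) / (120 * e)) (p ^ k - 1))
    (hprime : p.Prime) :
    k * d = 2 ∧ e = 1 ∧ ((p = 11 ∧ (p ^ (k * d) - 1) / (120 * e) = 1) ∨
      (p = 29 ∧ (p ^ (k * d) - 1) / (120 * e) = 7) ∨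
      (p = 59 ∧ (p ^ (k * d) - 1) / (120 * e) = 29)) := by
  have := search
  simp only [List.all_eq_true, List.mem_range'_1] at this
  have h := this p ⟨hp', by omega⟩ k ⟨hk', by omega⟩ d ⟨hd', by omega⟩ e ⟨he', by omega⟩
  have hne : p ≠ 119 := fun e => absurd (e ▸ hprime) (by norm_num)
  simpa [admissible, expected, h1, h2, h3, hne, and_assoc, or_assoc] using h

theorem arith {p n k d e m a : ℕ} (hp : p.Prime) (hp7 : 7 ≤ p) (hn : n = k * d) (hk : 1 ≤ k)
    (hd : 2 ≤ d) (he1 : 1 ≤ e) (he2 : e ≤ 2) (hm : p ^ n - 1 = 120 * e * m)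
    (hb : p ^ n - 1 ≤ 240 * k * a) (hm30 : m.Coprime 30) (ham : a ∣ m) (hak : a ∣ p ^ k - 1)
    (hmk : m ≤ k * a) :
    n = 2 ∧ e = 1 ∧ ((p = 11 ∧ m = 1) ∨ (p = 29 ∧ m = 7) ∨ (p = 59 ∧ m = 29)) := by
  subst hn
  set q := p ^ k with hq
  have hq7 : 7 ≤ q := hp7.trans (Nat.le_self_pow (by omega) p)
  have hT : q ^ d - 1 ≤ 240 * k * (q - 1) := by
    rw [hq, ← pow_mul]
    exact hb.trans (Nat.mul_le_mul_left _ (Nat.le_of_dvd (by omega) hak))
  -- the geometric sum is at most `240 k`
  have hgeo : q ^ (d - 1) + 1 ≤ 240 * k := by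
    obtain ⟨c, rfl⟩ : ∃ c, d = c + 2 := ⟨d - 2, by omega⟩
    have h1 : (q ^ (c + 1) + 1) * (q - 1) + 1 ≤ q ^ (c + 2) := by
      obtain ⟨r, hr⟩ : ∃ r, q = r + 1 := ⟨q - 1, by omega⟩
      have : r + 1 ≤ q ^ (c + 1) := hr ▸ Nat.le_self_pow (by omega) q
      rw [pow_succ q (c + 1), hr, Nat.add_sub_cancel]
      rw [hr] at this
      ring_nf at this ⊢
      omega
    by_contra hlt
    have h2 : (240 * k + 1) * (q - 1) ≤ (q ^ (c + 1) + 1) * (q - 1) :=
      Nat.mul_le_mul_right _ (by
        rw [show c + 2 - 1 = c + 1 by omega] at hlt; omega)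
    rw [add_mul, one_mul] at h2
    omega
  have hk4 : k < 4 := by
    by_contra hk4
    have hgrow : ∀ j, 4 ≤ j → 240 * j < 7 ^ j := by
      intro j hj
      induction j, hj using Nat.le_induction with
      | base => norm_num
      | succ j hj ih => rw [pow_succ]; omega
    have : 7 ^ k ≤ q ^ (d - 1) :=
      (Nat.pow_le_pow_left hp7 k).trans (Nat.le_self_pow (by omega) q)
    have := hgrow k (by omega)
    omega
  have hd4 : d < 4 := by
    by_contra hd4
    have : 7 ^ (k * 3) ≤ q ^ (d - 1) :=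
      ((Nat.pow_le_pow_left hp7 _).trans (le_of_eq (by rw [hq, ← pow_mul]))).trans
        (Nat.pow_le_pow_right (by omega) (by omega : 3 ≤ d - 1))
    interval_cases k <;> omega
  have hp240 : p < 240 := by
    by_contra hp'
    have : 240 ^ k ≤ q ^ (d - 1) :=
      (Nat.pow_le_pow_left (by omega : 240 ≤ p) k).trans (Nat.le_self_pow (by omega) q)
    interval_cases k <;> omega
  have hpos : 0 < 120 * e := by omega
  have hdiv : (p ^ (k * d) - 1) / (120 * e) = m := by rw [hm, Nat.mul_div_cancel_left _ hpos]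
  have hmpos : 0 < m := by
    rcases Nat.eq_zero_or_pos m with rfl | h
    · have : 2 ≤ p ^ (k * d) := hp.two_le.trans (Nat.le_self_pow (by positivity) p)
      omega
    · exact h
  obtain ⟨h1, h2, h3⟩ := arith_check p k d e hp240 hp7 hk4 hk hd4 hd (by omega) he1
    (by rw [hm]; exact Nat.mul_mod_right _ _) (by rw [hdiv]; exact hm30)
    (by
      rw [hdiv, ← hq]
      exact hmk.trans (Nat.mul_le_mul_left _
        (Nat.le_of_dvd (Nat.gcd_pos_of_pos_left _ hmpos) (Nat.dvd_gcd ham hak)))) hp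
  rw [hdiv] at h3
  exact ⟨h1, h2, h3⟩

variable {p : ℕ} [Fact p.Prime] {V : Type*} [AddCommGroup V] [Module (ZMod p) V] [Finite V]
  [Nontrivial V]

/-- The orders of an insoluble regular linear group. -/
theorem regular_structure (H : Subgroup (V ≃ₗ[ZMod p] V))
    (hreg : ∀ v w : V, v ≠ 0 → w ≠ 0 → ∃! h : H, (h : V ≃ₗ[ZMod p] V) v = w)
    (hns : ¬ Group.IsSolvable H) :
    ∃ L M : Subgroup H, Nonempty (L ≃* Matrix.SpecialLinearGroup (Fin 2) (ZMod 5)) ∧
      L ⊓ M = ⊥ ∧ L ⊔ M = ⊤ ∧ (∀ l ∈ L, ∀ x ∈ M, l * x = x * l) ∧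
      Module.finrank (ZMod p) V = 2 ∧
      ((p = 11 ∧ Nat.card M = 1) ∨ (p = 29 ∧ Nat.card M = 7) ∨ (p = 59 ∧ Nat.card M = 29)) := by
  classical
  have := LinearFPF.finite_group (p := p) (V := V)
  have h := hasFpfRep_of_regular H hreg
  obtain ⟨L, hLn, hL, hiso⟩ := exists_normal_sl25 h hns
  obtain ⟨M, hMn, hMC, hLM, hZ, h30, -, hidx⟩ := exists_decomposition h hL
  have hcommLM : ∀ l ∈ L, ∀ x ∈ M, l * x = x * l := fun l hl x hx =>
    Subgroup.mem_centralizer_iff.mp (hMC hx) l hl
  -- a self-centralising abelian normal subgroup of `M`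
  let A₀ : Subgroup M := Subgroup.centralizer ((commutator M : Subgroup M) : Set M)
  have hA₀c : A₀.Characteristic := by infer_instance
  have hMc : IsCyclic (M ⧸ commutator M) := by
    have : IsCyclic (Abelianization M) := inferInstance
    exact this
  have hA₀ab : IsMulCommutative A₀ := by
    refine ⟨⟨fun a b => ?_⟩⟩
    refine commutative_of_cyclic_center_quotient
      ((QuotientGroup.mk' (commutator M)).comp A₀.subtype) (fun x hx => ?_) a b
    have hx' : (x : M) ∈ commutator M := (QuotientGroup.eq_one_iff _).mp hx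
    exact Subgroup.mem_center_iff.mpr fun y => Subtype.ext
      (Subgroup.mem_centralizer_iff.mp y.2 _ hx').symm
  set A : Subgroup H := A₀.map M.subtype with hAdef
  have hAn : A.Normal := inferInstance
  have hAab : IsMulCommutative A := by
    refine ⟨⟨?_⟩⟩
    rintro ⟨_, a, ha, rfl⟩ ⟨_, b, hb, rfl⟩
    exact Subtype.ext (congrArg (fun u : A₀ => ((u : M) : H)) (hA₀ab.is_comm.comm ⟨a, ha⟩ ⟨b, hb⟩))
  have hAM : A ≤ M := Subgroup.map_subtype_le _
  let ρ : H →* (V ≃ₗ[ZMod p] V) := H.subtype
  have hρ : Function.Injective ρ := H.subtype_injective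
  have ht : IsVecTransitive ρ := fun v w hv hw => (hreg v w hv hw).exists
  have hcent : ∀ g : H, conjAut ρ A g = 1 ↔ g ∈ Subgroup.centralizer (A : Set H) := fun g => by
    rw [conjAut_eq_one_iff hρ, Subgroup.mem_centralizer_iff]
    exact ⟨fun h a ha => (h a ha).symm, fun h a ha => (h a ha).symm⟩
  have : Finite (Module.End (ZMod p) V) :=
    Finite.of_injective (fun f : Module.End (ZMod p) V => ⇑f) DFunLike.coe_injective
  have : Finite (alg ρ A ≃ₐ[ZMod p] alg ρ A) :=
    Finite.of_injective (fun f : alg ρ A ≃ₐ[ZMod p] alg ρ A => ⇑f) DFunLike.coe_injective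
  set k := degree ρ A with hkdef
  set n := Module.finrank (ZMod p) V with hndef
  have hker : (conjAut ρ A).ker = Subgroup.centralizer (A : Set H) := Subgroup.ext hcent
  have hidxC : (Subgroup.centralizer (A : Set H)).index ≤ k := by
    rw [← hker, Subgroup.index_ker]
    exact (Subgroup.card_le_card_group _).trans (card_aut_le ht A hAab)
  obtain ⟨d, hd⟩ := degree_dvd (ρ := ρ) ht A hAab
  have hk : 1 ≤ k := degree_pos ht A hAab
  have hnpos : 0 < n := Module.finrank_pos
  -- `L` does not lie in the field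
  have hd2 : 2 ≤ d := by
    by_contra hd2
    have hd1 : d = 1 := by
      rcases Nat.eq_zero_or_pos d with rfl | h0
      · rw [mul_zero] at hd; omega
      · omega
    rw [hd1, mul_one] at hd
    obtain ⟨v0, hv0⟩ := exists_ne (0 : V)
    letI := (isField_alg ht A hAab).toField
    let f : alg ρ A →+ V :=
      { toFun := fun c => (c : Module.End (ZMod p) V) v0
        map_zero' := rfl
        map_add' := fun _ _ => rfl }
    have hf : Function.Injective f := by
      rw [injective_iff_map_eq_zero]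
      intro c hc
      by_contra hc0
      apply hv0
      have e : (((c⁻¹ * c : alg ρ A) : Module.End (ZMod p) V)) v0 = 0 := by
        rw [MulMemClass.coe_mul, Module.End.mul_apply, show (c : Module.End (ZMod p) V) v0 = 0 from hc,
          map_zero]
      rw [inv_mul_cancel₀ hc0] at e
      exact e
    have hbij : Function.Bijective f := hf.bijective_of_nat_card_le <| by
      rw [natCard_alg ht A hAab, ← hd, Module.natCard_eq_pow_finrank (K := ZMod p), Nat.card_zmod]
    have hmem : ∀ l ∈ L, ∃ c ∈ alg ρ A, endHom ρ l = c := by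
      intro l hl
      obtain ⟨c, hc⟩ := hbij.2 (ρ l v0)
      refine ⟨c, c.2, LinearMap.ext fun v => ?_⟩
      obtain ⟨d', rfl⟩ := hbij.2 v
      have hl' : Commute (endHom ρ l) (d' : Module.End (ZMod p) V) :=
        alg_commute_of_commute ρ (fun a ha => Commute.map (hcommLM l hl a (hAM ha)) (endHom ρ)) d'.2
      calc endHom ρ l ((d' : Module.End (ZMod p) V) v0)
          = (d' : Module.End (ZMod p) V) (endHom ρ l v0) := LinearMap.congr_fun hl'.eq v0
        _ = (d' : Module.End (ZMod p) V) ((c : Module.End (ZMod p) V) v0) := by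
            rw [endHom_apply]; exact congrArg _ hc.symm
        _ = (c : Module.End (ZMod p) V) ((d' : Module.End (ZMod p) V) v0) :=
            LinearMap.congr_fun (alg_commute ρ hAab d'.2 c.2).eq v0
    obtain ⟨a, haL, ha⟩ := hL.exists_three h
    obtain ⟨b, hbL, hb, hab⟩ := hL.exists_pos h haL ha
    apply not_commute_of_isPos ha.1 hb.1 hab
    obtain ⟨c, hc, hca⟩ := hmem a haL
    obtain ⟨c', hc', hcb⟩ := hmem b hbL
    apply endHom_injective ρ hρ
    rw [map_mul, map_mul, hca, hcb]
    exact alg_commute ρ hAab hc hc'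
  -- orders
  set m := Nat.card M with hmdef
  set a := Nat.card A with hadef
  set e := (L ⊔ M).index with hedef
  have hLMcard : Nat.card (L ⊔ M : Subgroup H) = 120 * m := by
    have e1 := Subgroup.relIndex_mul_relIndex ⊥ M (L ⊔ M) bot_le le_sup_right
    rw [Subgroup.relIndex_bot_left, Subgroup.relIndex_bot_left, Subgroup.relIndex_sup_right,
      ← Subgroup.inf_relIndex_left, hLM, Subgroup.relIndex_bot_left, hL.1] at e1
    rw [← e1, mul_comm]
  have hcardH : Nat.card H = 120 * e * m := by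
    rw [← (L ⊔ M).card_mul_index, hLMcard, hedef]; ring
  have hVcard : Nat.card H = p ^ n - 1 := by
    rw [LinearFPF.card_group hreg, Module.natCard_eq_pow_finrank (K := ZMod p), Nat.card_zmod]
  have hMA : ∀ x ∈ M, x ∈ Subgroup.centralizer (A : Set H) → x ∈ A := by
    intro x hx hxc
    refine ⟨⟨x, hx⟩, Subgroup.mem_centralizer_iff.mpr fun c hc => ?_, rfl⟩
    have hcA : c ∈ A₀ := Subgroup.mem_centralizer_iff.mpr fun c' hc' => by
      have : IsMulCommutative (commutator M) := by
        have : IsCyclic (commutator M) := IsZGroup.isCyclic_commutator M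
        obtain ⟨g, hg⟩ := this.exists_generator
        exact ⟨⟨fun a b => by
          obtain ⟨i, rfl⟩ := hg a
          obtain ⟨j, rfl⟩ := hg b
          exact zpow_mul_comm g i j⟩⟩
      exact congrArg Subtype.val (this.is_comm.comm ⟨c', hc'⟩ ⟨c, hc⟩)
    exact Subtype.ext (Subgroup.mem_centralizer_iff.mp hxc _ ⟨c, hcA, rfl⟩)
  have hmk : m ≤ k * a := by
    have h1 := ((conjAut ρ A).comp M.subtype).ker.card_mul_index
    rw [Subgroup.index_ker] at h1
    rw [hmdef, ← h1, mul_comm]
    refine Nat.mul_le_mul ((Subgroup.card_le_card_group _).trans (card_aut_le ht A hAab)) ?_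
    refine Nat.card_le_card_of_injective
      (fun x => (⟨((x : M) : H), hMA _ (x : M).2 ((hcent _).1 x.2)⟩ : A)) fun x y hxy => ?_
    exact Subtype.ext (Subtype.ext (congrArg Subtype.val hxy :))
  have hb : p ^ n - 1 ≤ 240 * k * a := by
    set C := Subgroup.centralizer (A : Set H) with hCdef
    have h1 : Nat.card (C ⊓ (L ⊔ M) : Subgroup H) ≤ 120 * a := by
      rw [← hL.1, hadef, ← Nat.card_prod]
      have hsurj : ∀ x : (C ⊓ (L ⊔ M) : Subgroup H), ∃ q : L × A, (q.1 : H) * q.2 = x := by
        rintro ⟨x, hxC, hxLM⟩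
        replace hxLM : x ∈ L ⊔ M := hxLM
        rw [Subgroup.mem_sup_of_normal_right] at hxLM
        obtain ⟨l, hl, y, hy, rfl⟩ := hxLM
        have hlC : l ∈ C := Subgroup.mem_centralizer_iff.mpr fun a ha =>
          (hcommLM l hl a (hAM ha)).symm
        exact ⟨(⟨l, hl⟩, ⟨y, hMA y hy ((Subgroup.mul_mem_cancel_left C hlC).mp hxC)⟩), rfl⟩
      choose f hf using hsurj
      exact Nat.card_le_card_of_injective f fun x y hxy => Subtype.ext (by rw [← hf x, ← hf y, hxy])
    have h2 : Nat.card C ≤ 2 * (120 * a) := by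
      rw [← (C ⊓ (L ⊔ M)).relIndex_bot_left] at h1
      rw [← Subgroup.relIndex_bot_left, ← Subgroup.relIndex_mul_relIndex ⊥ _ C bot_le inf_le_left,
        Subgroup.inf_relIndex_left, mul_comm]
      exact Nat.mul_le_mul ((Subgroup.relIndex_le_of_le_right le_top (by
        rw [Subgroup.relIndex_top_right]; exact Subgroup.index_ne_zero_of_finite)).trans
          (by rw [Subgroup.relIndex_top_right]; exact hidx)) h1
    rw [← hVcard, ← C.card_mul_index]
    calc Nat.card C * C.index ≤ 2 * (120 * a) * k := Nat.mul_le_mul h2 hidxC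
      _ = 240 * k * a := by ring
  have hp7 : 7 ≤ p := by
    by_contra hp
    have hp1 : p ∣ Nat.card H := by
      rw [hcardH]
      have : p ∣ 120 := by
        have := (Fact.out : p.Prime).two_le
        have : p < 7 := by omega
        have hpp : Nat.Prime p := Fact.out
        have : p = 2 ∨ p = 3 ∨ p = 5 := by
          rcases p with _|_|_|_|_|_|_|p <;> first | omega | exact absurd hpp (by norm_num)
        rcases this with h | h | h <;> rw [h] <;> norm_num
      exact dvd_mul_of_dvd_left (dvd_mul_of_dvd_left this e) m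
    rw [hVcard] at hp1
    have h1 : p ∣ p ^ n := dvd_pow_self p hnpos.ne'
    have hpow : 1 ≤ p ^ n := Nat.one_le_pow _ _ (Fact.out : p.Prime).pos
    have := Nat.dvd_sub h1 hp1
    rw [show p ^ n - (p ^ n - 1) = 1 by omega] at this
    exact (Fact.out : p.Prime).one_lt.ne' (Nat.dvd_one.mp this)
  have he1 : 1 ≤ e := Nat.pos_of_ne_zero Subgroup.index_ne_zero_of_finite
  obtain ⟨hn2, he, hcases⟩ := arith (n := n) (k := k) (d := d) (e := e) (m := m) (a := a) Fact.out hp7
    hd hk hd2 he1 hidx (hVcard.symm.trans hcardH) hb h30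
    (Subgroup.card_dvd_of_le hAM) (natCard_dvd_degree ht A hAab hρ) hmk
  exact ⟨L, M, hiso, hLM, Subgroup.index_eq_one.mp he, hcommLM, hn2, hcases⟩

end Cfsg.Agent.Lib.Zass25
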