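import Cfsg.Agent.Lib.SL2.Dickson

/-!
Finite subgroups of `SL₂` of order prime to the characteristic, generated by two or more elements
of order three which do not all commute: their images in `PSL₂` are `A₄` or `A₅`.
-/

set_option autoImplicit false

namespace Cfsg.Agent.Lib.Zass25

open Cfsg.Agent.Lib.SL2

theorem eq_top_of_three {M : Type*} [Group M] {S : Set M} (hS : Subgroup.closure S = ⊤)
    (P : Subgroup M) (h : ∀ s ∈ S, s ∈ P) : P = ⊤ :=
  top_le_iff.mp (hS ▸ (Subgroup.closure_le P).mpr h)

theorem perm_four_sign : ∀ g : Equiv.Perm (Fin 4), g * g * g = 1 → Equiv.Perm.sign g = 1 := by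
  decide +kernel

theorem perm_four_three (g : Equiv.Perm (Fin 4)) (h : g * g * g = 1) :
    g ∈ alternatingGroup (Fin 4) := Equiv.Perm.mem_alternatingGroup.mpr (perm_four_sign g h)

/-- The finite classification. -/
theorem sl2_small {r : ℕ} [Fact r.Prime] {F : Type*} [Field F] [Fintype F] [CharP F r]
    {M : Type*} [Group M] [Finite M] (f : M →* SLtwo F) (hf : Function.Injective f)
    (hr : ¬ r ∣ Nat.card M) {S : Set M} (hS : Subgroup.closure S = ⊤)
    (hS3 : ∀ s ∈ S, s * s * s = 1) (hne : ∃ a ∈ S, ∃ b ∈ S, a * b ≠ b * a) :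
    (∃ π : M →* Equiv.Perm (Fin 4), (∀ m, π m = 1 ↔ m * m = 1) ∧
      π.range = alternatingGroup (Fin 4) ∧ Nat.card M = 24) ∨
    (∃ π : M →* Equiv.Perm (Fin 5), (∀ m, π m = 1 ↔ m * m = 1) ∧
      π.range = alternatingGroup (Fin 5) ∧ Nat.card M = 120) := by
  classical
  have hr2 : ∀ m : M, proj (f m) = 1 ↔ m * m = 1 := by
    intro m
    rw [proj_eq_one_iff]
    constructor
    · intro h
      apply hf
      rw [map_mul, map_one]
      rcases (mem_center_iff_eq _).1 h with e | e <;> rw [e] <;> simp
    · intro h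
      rw [mem_center_iff_eq]
      have hm : f m * f m = 1 := by rw [← map_mul, h, map_one]
      have e01 := congrArg (fun g : SLtwo F => g 0 1) hm
      have e10 := congrArg (fun g : SLtwo F => g 1 0) hm
      have hinv : (f m)⁻¹ = f m := inv_eq_of_mul_eq_one_right hm
      have a1 : f m 1 1 = f m 0 0 := by
        have := inv_00 (f m); rwa [hinv, eq_comm] at this
      have a2 : (2 : F) * f m 0 1 = 0 := by
        have := inv_01 (f m); rw [hinv] at this; linear_combination this
      have a3 : (2 : F) * f m 1 0 = 0 := by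
        have := inv_10 (f m); rw [hinv] at this; linear_combination this
      by_cases h2 : (2 : F) = 0
      · left
        have : r = 2 := by
          have h2' : ((2 : ℕ) : F) = 0 := by exact_mod_cast h2
          rw [CharP.cast_eq_zero_iff F r] at h2'
          exact (Nat.prime_dvd_prime_iff_eq Fact.out Nat.prime_two).mp h2'
        subst this
        by_contra hne'
        refine hr ?_
        have ho : orderOf m = 2 := orderOf_eq_prime (by rw [pow_two, h])
          (fun e => hne' (by rw [e, map_one]))
        exact ho ▸ orderOf_dvd_natCard m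
      · have b := (mul_eq_zero.1 a2).resolve_left h2
        have c := (mul_eq_zero.1 a3).resolve_left h2
        have hd := det_entries (f m)
        rw [a1, b, c, mul_zero, sub_zero] at hd
        rcases mul_self_eq_one_iff.1 hd with e | e
        · left; exact ext_entries (by simp [e]) (by simp [b]) (by simp [c]) (by simp [a1, e])
        · right; exact ext_entries (by simp [e]) (by simp [b]) (by simp [c]) (by simp [a1, e])
  let φ : M →* PSLtwo F := proj.comp f
  set H : Subgroup (PSLtwo F) := φ.range with hH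
  have hcard : r.Coprime (Nat.card H) := by
    refine (Fact.out : r.Prime).coprime_iff_not_dvd.mpr fun h => hr (h.trans ?_)
    exact Subgroup.card_range_dvd φ
  have hφ3 : ∀ s ∈ S, φ s * φ s * φ s = 1 := fun s hs => by
    rw [← map_mul, ← map_mul, hS3 s hs, map_one]
  obtain ⟨a, ha, b, hb, hab⟩ := hne
  have hcommute : φ a * φ b ≠ φ b * φ a := by
    intro e
    apply hab
    have h1 : φ (a⁻¹ * b⁻¹ * a * b) = 1 := by
      simp only [map_mul, map_inv]
      calc (φ a)⁻¹ * (φ b)⁻¹ * φ a * φ b = (φ a)⁻¹ * (φ b)⁻¹ * (φ a * φ b) := by group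
        _ = 1 := by rw [e]; group
    have h2 := (hr2 _).1 h1
    set c := a⁻¹ * b⁻¹ * a * b with hc
    have hcen : ∀ g : M, g * c = c * g := fun g => hf ((map_mul f g c).trans
      ((Subgroup.mem_center_iff.1 (proj_eq_one_iff.1 h1) (f g)).trans (map_mul f c g).symm))
    -- `a⁻¹ b⁻¹ a = c b⁻¹` has order three, so `c = 1`
    have e1 : a⁻¹ * b⁻¹ * a = c * b⁻¹ := by rw [hc]; group
    have hb' : b⁻¹ * b⁻¹ * b⁻¹ = 1 := by
      rw [← mul_inv_rev, ← mul_inv_rev, ← mul_assoc, hS3 b hb, inv_one]
    have e3 : c * b⁻¹ * (c * b⁻¹) * (c * b⁻¹) = 1 := by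
      rw [← e1]
      calc a⁻¹ * b⁻¹ * a * (a⁻¹ * b⁻¹ * a) * (a⁻¹ * b⁻¹ * a) = a⁻¹ * (b⁻¹ * b⁻¹ * b⁻¹) * a := by
            group
        _ = 1 := by rw [hb']; group
    have e4 : c * c * c * (b⁻¹ * b⁻¹ * b⁻¹) = 1 := by
      have hcb : Commute c b⁻¹ := (hcen _).symm
      have h := hcb.mul_pow 3
      simp only [pow_succ, pow_zero, one_mul] at h
      rw [← h]; exact e3
    rw [hb', mul_one, h2, one_mul] at e4
    calc a * b = b * a * (a⁻¹ * b⁻¹ * a * b) := by group
      _ = b * a := by rw [← hc, e4, mul_one]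
  have hHne : ¬ ∀ u ∈ H, ∀ v ∈ H, u * v = v * u := fun h =>
    hcommute (h _ ⟨a, rfl⟩ _ ⟨b, rfl⟩)
  -- the subgroup of `M` mapping into a subgroup of `H` containing all elements of order three
  have hgen : ∀ (T : Type) [Group T] (g : M →* T) (P : Subgroup T),
      (∀ t : T, t * t * t = 1 → t ∈ P) → ∀ m : M, g m ∈ P := by
    intro T _ g P hP m
    have := eq_top_of_three hS (P.comap g) fun s hs => hP _ (by
      rw [← map_mul, ← map_mul, hS3 s hs, map_one])
    exact (this ▸ Subgroup.mem_top m : m ∈ P.comap g)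
  rcases dickson r H with h | ⟨A, -, -, h | ⟨⟨e⟩⟩⟩ | ⟨x, hx, hx1, h⟩ | h | ⟨K, δ, hK, h⟩
  · refine absurd (fun u hu v hv => ?_) hHne
    rw [h, Subgroup.mem_bot] at hu hv
    rw [hu, hv]
  · have := h.1
    letI := IsCyclic.commGroup (α := H)
    exact absurd (fun u hu v hv => congrArg Subtype.val (mul_comm (⟨u, hu⟩ : H) ⟨v, hv⟩)) hHne
  · -- dihedral: elements of order three are rotations
    exfalso
    apply hHne
    let R : Subgroup (DihedralGroup (Nat.card A)) :=
      { carrier := Set.range DihedralGroup.r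
        one_mem' := ⟨0, rfl⟩
        mul_mem' := by rintro _ _ ⟨i, rfl⟩ ⟨j, rfl⟩; exact ⟨i + j, rfl⟩
        inv_mem' := by rintro _ ⟨i, rfl⟩; exact ⟨-i, rfl⟩ }
    have hP : ∀ t : DihedralGroup (Nat.card A), t * t * t = 1 → t ∈ R := by
      rintro (i | i) ht
      · exact ⟨i, rfl⟩
      · rw [DihedralGroup.sr_mul_sr, sub_self, ← DihedralGroup.one_def, one_mul] at ht
        exact absurd ht (by rw [DihedralGroup.one_def]; exact fun h => nomatch h)
    intro u hu v hv
    obtain ⟨m, hm⟩ := hu
    obtain ⟨n, hn⟩ := hv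
    let g : M →* DihedralGroup (Nat.card A) := e.toMonoidHom.comp φ.rangeRestrict
    obtain ⟨i, hi⟩ := hgen _ g R hP m
    obtain ⟨j, hj⟩ := hgen _ g R hP n
    have h2 : g (m * n) = g (n * m) := by
      rw [map_mul, map_mul, ← hi, ← hj, DihedralGroup.r_mul_r, DihedralGroup.r_mul_r, add_comm]
    have h3 := congrArg Subtype.val (e.injective h2 : φ.rangeRestrict (m * n) = φ.rangeRestrict (n * m))
    simpa [hm, hn] using h3
  · -- a Borel subgroup
    exfalso
    apply hHne
    intro u hu v hv
    letI := ZMod.algebra F r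
    have hn : ∀ w ∈ H, w * x * w⁻¹ ∈ torus x := fun w hw =>
      (Subgroup.mem_normalizer_iff.1 (h hw) x).1 (mem_torus_self x)
    have hmem := commutator_mem_torus_unip hx hx1 (hn u hu) (hn v hv)
    have h1 : orderOf (u * v * u⁻¹ * v⁻¹) = 1 := by
      refine Nat.eq_one_of_dvd_coprimes (hcard.pow_left (Module.finrank (ZMod r) F) |>.symm) ?_ ?_
      · exact Subgroup.orderOf_dvd_natCard _
          (mul_mem (mul_mem (mul_mem hu hv) (inv_mem hu)) (inv_mem hv))
      · have hq : Nat.card F = r ^ Module.finrank (ZMod r) F := by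
          rw [Module.natCard_eq_pow_finrank (K := ZMod r), Nat.card_zmod]
        rw [← hq]
        have := Subgroup.orderOf_dvd_natCard _ hmem
        exact this.trans (dvd_of_eq (by rw [card_torus_unip hx hx1, Nat.card_eq_fintype_card]))
    rw [orderOf_eq_one_iff, mul_inv_eq_one, mul_inv_eq_iff_eq_mul] at h1
    exact h1
  · -- small exceptional images
    have hπ : ∀ {n : ℕ} (e : H →* Equiv.Perm (Fin n)), Function.Injective e →
        ∀ m, e.comp φ.rangeRestrict m = 1 ↔ m * m = 1 := by
      intro n e he m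
      rw [MonoidHom.comp_apply, map_eq_one_iff e he, ← hr2]
      exact Subtype.ext_iff
    have hcardM : ∀ {n : ℕ} (π : M →* Equiv.Perm (Fin n)), (∀ m, π m = 1 ↔ m * m = 1) →
        2 ∣ Nat.card π.range → Nat.card M = 2 * Nat.card π.range := by
      intro n π hπ heven
      rw [← π.ker.card_mul_index, Subgroup.index_ker]
      congr 1
      obtain ⟨t, ht⟩ := exists_prime_orderOf_dvd_card' (G := M) 2
        (heven.trans (Subgroup.card_range_dvd π))
      have ht2 : t * t = 1 := by rw [← pow_two, ← ht, pow_orderOf_eq_one]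
      have ht1 : t ≠ 1 := fun e => by rw [e, orderOf_one] at ht; omega
      rw [Nat.card_eq_two_iff]
      refine ⟨1, ⟨t, (hπ t).2 ht2⟩, fun e => ht1 (congrArg Subtype.val e).symm, ?_⟩
      refine Set.eq_univ_of_forall fun m => ?_
      have hm := (hπ m).1 m.2
      have key : ∀ w : M, w * w = 1 → f w = 1 ∨ f w = -1 := fun w hw =>
        (mem_center_iff_eq _).1 (proj_eq_one_iff.1 ((hr2 w).2 hw))
      rcases key m hm with e | e
      · exact Or.inl (Subtype.ext (hf (e.trans (map_one f).symm)))
      rcases key t ht2 with e' | e'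
      · exact absurd (hf (e'.trans (map_one f).symm)) ht1
      · exact Or.inr (Subtype.ext (hf (e.trans e'.symm)))
    have four : ∀ e : H →* Equiv.Perm (Fin 4), Function.Injective e →
        alternatingGroup (Fin 4) ≤ e.range →
        ∃ π : M →* Equiv.Perm (Fin 4), (∀ m, π m = 1 ↔ m * m = 1) ∧
          π.range = alternatingGroup (Fin 4) ∧ Nat.card M = 24 := by
      intro e he hge
      let π := e.comp φ.rangeRestrict
      have hrange : π.range = alternatingGroup (Fin 4) := by
        refine le_antisymm ?_ ?_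
        · rintro _ ⟨m, rfl⟩
          exact hgen _ π _ perm_four_three m
        · rw [MonoidHom.range_comp, MonoidHom.range_eq_top.2 φ.rangeRestrict_surjective,
            ← MonoidHom.range_eq_map]
          exact hge
      have hcardA : Nat.card (alternatingGroup (Fin 4)) = 12 := by
        rw [nat_card_alternatingGroup, Nat.card_fin]; decide
      refine ⟨π, hπ e he, hrange, ?_⟩
      rw [hcardM π (hπ e he) (by rw [hrange, hcardA]; norm_num), hrange, hcardA]
    rcases h with ⟨⟨e⟩⟩ | ⟨⟨e⟩⟩ | ⟨⟨e⟩⟩
    · refine Or.inl (four ((alternatingGroup (Fin 4)).subtype.comp e.toMonoidHom)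
        (Subtype.val_injective.comp e.injective) fun w hw => ⟨e.symm ⟨w, hw⟩, by simp⟩)
    · exact Or.inl (four e.toMonoidHom e.injective fun w _ => ⟨e.symm w, by simp⟩)
    · right
      let π := ((alternatingGroup (Fin 5)).subtype.comp e.toMonoidHom).comp φ.rangeRestrict
      have he : Function.Injective ((alternatingGroup (Fin 5)).subtype.comp e.toMonoidHom) :=
        Subtype.val_injective.comp e.injective
      have hrange : π.range = alternatingGroup (Fin 5) := by
        refine le_antisymm ?_ fun w hw => ?_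
        · rintro _ ⟨m, rfl⟩; exact (e (φ.rangeRestrict m)).2
        · obtain ⟨m, hm⟩ := φ.rangeRestrict_surjective (e.symm ⟨w, hw⟩)
          exact ⟨m, by simp [π, hm]⟩
      have hcardA : Nat.card (alternatingGroup (Fin 5)) = 60 := by
        rw [nat_card_alternatingGroup, Nat.card_fin]; decide
      refine ⟨π, hπ _ he, hrange, ?_⟩
      rw [hcardM π (hπ _ he) (by rw [hrange, hcardA]; norm_num), hrange, hcardA]
  · -- subfield subgroups contain elements of order `r`
    exfalso
    have hle : (slMap K).range.map (MulAut.conj δ).toMonoidHom ≤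
        H.map Matrix.ProjectiveSpecialLinearGroup.toPGL := by
      rcases h with h | h
      · rw [h]
        exact Subgroup.map_mono (by rw [slMap, MonoidHom.range_comp]; exact Subgroup.map_le_range _ _)
      · rw [h]
    have hdvd : r ∣ Nat.card H := by
      have h1 := Subgroup.card_dvd_of_le hle
      rw [Subgroup.card_map_of_injective (MulEquiv.injective _),
        Subgroup.card_map_of_injective Matrix.ProjectiveSpecialLinearGroup.toPGL_injective,
        Nat.card_congr (rangeSlMapEquiv K).toEquiv] at h1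
      refine dvd_trans ?_ h1
      have hu : orderOf (proj (upper (1 : K))) = r := by
        refine orderOf_eq_prime ?_ ?_
        · rw [← map_pow, upper_pow, mul_one, CharP.cast_eq_zero, upper_zero, map_one]
        · intro e
          rcases (mem_center_iff_eq _).1 (proj_eq_one_iff.1 e) with e | e <;>
            simpa using congrArg (fun g : SLtwo K => g 0 1) e
      exact hu ▸ orderOf_dvd_natCard _
    exact (Fact.out : r.Prime).one_lt.ne' (Nat.eq_one_of_dvd_coprimes hcard (dvd_refl r) hdvd)

end Cfsg.Agent.Lib.Zass25
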