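import Cfsg.Agent.Lib.Zass25.Embed
import Cfsg.Agent.Lib.Zass25.SL2Small

/-!
Two or three elements of order three in a finite group with a fixed-point-free representation
generate `2.A₄` or `2.A₅`.
-/

set_option autoImplicit false

namespace Cfsg.Agent.Lib.Zass25

open Cfsg.Agent.Lib.SL2

/-- A fixed-point-free representation in coprime characteristic over an algebraically closed field. -/
def HasFpfRep (G : Type*) [Group G] : Prop :=
  ∃ (r : ℕ) (_ : Fact r.Prime) (n : ℕ)
    (ρ : G →* Module.End (AlgebraicClosure (ZMod r)) (Fin n → AlgebraicClosure (ZMod r))),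
    0 < n ∧ ¬ r ∣ Nat.card G ∧ IsFpfRep ρ

theorem HasFpfRep.subgroup {G : Type*} [Group G] (h : HasFpfRep G) (L : Subgroup G) :
    HasFpfRep L := by
  obtain ⟨r, hr, n, ρ, hn, hrG, hρ⟩ := h
  exact ⟨r, hr, n, ρ.comp L.subtype, hn, fun hd => hrG (hd.trans (Subgroup.card_subgroup_dvd_card L)),
    fun g hg => hρ g fun e => hg (Subtype.ext e)⟩

/-- A subgroup of order `24` which is an extension of its elements of order at most two by `A₄`. -/
def IsTwoA4 {G : Type*} [Group G] (L : Subgroup G) : Prop :=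
  Nat.card L = 24 ∧ ∃ π : L →* Equiv.Perm (Fin 4), (∀ m, π m = 1 ↔ m * m = 1) ∧
    π.range = alternatingGroup (Fin 4)

/-- A subgroup of order `120` which is an extension of its elements of order at most two by `A₅`. -/
def IsTwoA5 {G : Type*} [Group G] (L : Subgroup G) : Prop :=
  Nat.card L = 120 ∧ ∃ π : L →* Equiv.Perm (Fin 5), (∀ m, π m = 1 ↔ m * m = 1) ∧
    π.range = alternatingGroup (Fin 5)

section Rep

variable {M : Type*} [Group M] [Finite M] {F : Type*} [Field F] {V : Type*} [AddCommGroup V]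
  [Module F V]

theorem exists_irreducible_subrep [Nontrivial V] [FiniteDimensional F V]
    {ρ : M →* Module.End F V} (hρ : IsFpfRep ρ) {S : Set M} (hS : Subgroup.closure S = ⊤) :
    ∃ (W : Submodule F V) (σ : M →* Module.End F W), Nontrivial W ∧ IsFpfRep σ ∧
      ∀ U : Submodule F W, (∀ f ∈ σ '' S, ∀ u ∈ U, f u ∈ U) → U = ⊥ ∨ U = ⊤ := by
  classical
  obtain ⟨W, ⟨hW0, hWS⟩, hmin⟩ := wellFounded_lt.has_min
    {W : Submodule F V | W ≠ ⊥ ∧ ∀ s ∈ S, ∀ v ∈ W, ρ s v ∈ W}
    ⟨⊤, top_ne_bot, fun _ _ _ _ => Submodule.mem_top⟩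
  have hall : ∀ m : M, ∀ v ∈ W, ρ m v ∈ W := by
    intro m
    induction (hS ▸ Subgroup.mem_top m : m ∈ Subgroup.closure S) using Subgroup.closure_induction with
    | mem s hs => exact hWS s hs
    | one => intro v hv; simpa using hv
    | mul a b _ _ ha hb => intro v hv; rw [map_mul]; exact ha _ (hb v hv)
    | inv a _ ha =>
      obtain ⟨k, hk⟩ := (mem_powers_iff_mem_zpowers (x := a) (y := a⁻¹)).mpr
        ⟨-1, zpow_neg_one a⟩
      have : ∀ j : ℕ, ∀ v ∈ W, ρ (a ^ j) v ∈ W := by
        intro j
        induction j with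
        | zero => intro v hv; simpa using hv
        | succ j ih => intro v hv; rw [pow_succ, map_mul]; exact ih _ (ha v hv)
      simp only at hk
      rw [← hk]
      exact this k
  let σ : M →* Module.End F W :=
    { toFun := fun m => (ρ m).restrict (hall m)
      map_one' := LinearMap.ext fun v => Subtype.ext (by simp)
      map_mul' := fun a b => LinearMap.ext fun v => Subtype.ext (by simp) }
  refine ⟨W, σ, Submodule.nontrivial_iff_ne_bot.mpr hW0,
    fun g hg v hv => Subtype.ext (hρ g hg v (congrArg Subtype.val hv)), fun U hU => ?_⟩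
  by_cases h0 : U = ⊥
  · exact Or.inl h0
  refine Or.inr ?_
  set U' := U.map W.subtype with hU'
  have hU'le : U' ≤ W := Submodule.map_subtype_le W U
  have hmem : U' ≠ ⊥ ∧ ∀ s ∈ S, ∀ v ∈ U', ρ s v ∈ U' := by
    refine ⟨fun h => h0 (Submodule.map_injective_of_injective W.injective_subtype
      (h.trans (Submodule.map_bot _).symm)), ?_⟩
    rintro s hs _ ⟨u, hu, rfl⟩
    exact ⟨σ s u, hU _ ⟨s, hs, rfl⟩ u hu, rfl⟩
  have hUW : U' = W := by
    by_contra h
    exact hmin U' hmem (lt_of_le_of_ne hU'le h)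
  rw [← Submodule.comap_map_eq_of_injective W.injective_subtype U, ← hU', hUW,
    Submodule.comap_subtype_self]

omit [Finite M] in
theorem finrank_ne_one [FiniteDimensional F V] [Nontrivial V] {σ : M →* Module.End F V}
    (hσ : Function.Injective σ) {x y : M} (hne : x * y ≠ y * x) : Module.finrank F V ≠ 1 := by
  intro h
  obtain ⟨v, hv0, hv⟩ := finrank_eq_one_iff'.mp h
  apply hne
  apply hσ
  rw [map_mul, map_mul]
  obtain ⟨c, hc⟩ := hv (σ x v)
  obtain ⟨d, hd⟩ := hv (σ y v)
  refine LinearMap.ext fun w => ?_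
  obtain ⟨e, rfl⟩ := hv w
  simp only [Module.End.mul_apply, map_smul]
  rw [← hc, ← hd, map_smul, map_smul, ← hc, ← hd, smul_smul d c, smul_smul c d, mul_comm d c]

omit [Finite M] in
theorem exists_sl2_hom [FiniteDimensional F V] (hd : Module.finrank F V = 2)
    {σ : M →* Module.End F V} (hσ : Function.Injective σ) {S : Set M}
    (hS : Subgroup.closure S = ⊤) (h3 : ∀ s ∈ S, σ s * σ s = -σ s - 1)
    (hnc : ∀ s ∈ S, ∃ s' ∈ S, s * s' ≠ s' * s) :
    ∃ f : M →* SLtwo F, Function.Injective f := by
  classical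
  let b : Module.Basis (Fin 2) F V := Module.finBasisOfFinrankEq F V hd
  let e : Module.End F V ≃ₐ[F] Matrix (Fin 2) (Fin 2) F := LinearMap.toMatrixAlgEquiv b
  let θ : M →* Matrix (Fin 2) (Fin 2) F := (e : _ →* Matrix (Fin 2) (Fin 2) F).comp σ
  have hθ : Function.Injective θ := e.injective.comp hσ
  have hdet : ∀ m, (θ m).det = 1 := by
    have hEq : Matrix.detMonoidHom.comp θ = 1 := by
      refine MonoidHom.eq_of_eqOn_dense hS fun s hs => ?_
      set A := θ s with hA
      have hA2 : A * A = -A - 1 := by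
        have := congrArg e (h3 s hs)
        rw [map_mul, map_sub, map_neg, map_one] at this
        exact this
      have e00 := congrFun (congrFun hA2 0) 0
      have e01 := congrFun (congrFun hA2 0) 1
      have e10 := congrFun (congrFun hA2 1) 0
      have e11 := congrFun (congrFun hA2 1) 1
      simp [Matrix.mul_apply, Fin.sum_univ_two] at e00 e01 e10 e11
      show A.det = 1
      rw [Matrix.det_fin_two]
      by_cases ht : A 0 0 + A 1 1 + 1 = 0
      · linear_combination (A 0 0) * ht - e00
      · exfalso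
        have hb : A 0 1 = 0 := by
          have : A 0 1 * (A 0 0 + A 1 1 + 1) = 0 := by linear_combination e01
          exact (mul_eq_zero.mp this).resolve_right ht
        have hc : A 1 0 = 0 := by
          have : A 1 0 * (A 0 0 + A 1 1 + 1) = 0 := by linear_combination e10
          exact (mul_eq_zero.mp this).resolve_right ht
        have had : A 0 0 = A 1 1 := by
          have : (A 0 0 - A 1 1) * (A 0 0 + A 1 1 + 1) = 0 := by linear_combination e00 - e11
          exact sub_eq_zero.mp ((mul_eq_zero.mp this).resolve_right ht)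
        obtain ⟨s', -, hs'⟩ := hnc s hs
        apply hs'
        apply hθ
        rw [map_mul, map_mul, ← hA]
        ext i j
        fin_cases i <;> fin_cases j <;>
          simp [Matrix.mul_apply, Fin.sum_univ_two, hb, hc, had, mul_comm]
    exact fun m => DFunLike.congr_fun hEq m
  refine ⟨{ toFun := fun m => ⟨θ m, hdet m⟩
            map_one' := Subtype.ext (map_one θ)
            map_mul' := fun a c => Subtype.ext (map_mul θ a c) }, fun a c h => hθ ?_⟩
  exact congrArg Subtype.val h

omit [AddCommGroup V] [Module F V] in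
theorem exists_sl2_hom_finite {r : ℕ} [Fact r.Prime] {F : Type} [Field F] [Algebra (ZMod r) F]
    [Algebra.IsAlgebraic (ZMod r) F] (f : M →* SLtwo F) (hf : Function.Injective f) :
    ∃ (K : Type) (_ : Field K) (_ : Fintype K) (_ : CharP K r) (g : M →* SLtwo K),
      Function.Injective g := by
  classical
  let E : Set F := Set.range fun q : M × Fin 2 × Fin 2 => f q.1 q.2.1 q.2.2
  let K := IntermediateField.adjoin (ZMod r) E
  have : Finite E := (Set.finite_range _).to_subtype
  have : FiniteDimensional (ZMod r) K :=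
    IntermediateField.finiteDimensional_adjoin fun x _ => Algebra.IsIntegral.isIntegral x
  have : Finite K := Module.finite_of_finite (ZMod r)
  let T : M → Matrix (Fin 2) (Fin 2) K := fun m => Matrix.of fun i j =>
    ⟨f m i j, IntermediateField.subset_adjoin _ _ ⟨(m, i, j), rfl⟩⟩
  have hT : ∀ m, (algebraMap K F).mapMatrix (T m) = (f m : Matrix (Fin 2) (Fin 2) F) := fun m => by
    ext i j; rfl
  have hinj : Function.Injective ((algebraMap K F).mapMatrix (m := Fin 2)) := fun A B h => by
    ext i j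
    exact congrArg (fun C : Matrix (Fin 2) (Fin 2) F => C i j) h
  have hdet : ∀ m, (T m).det = 1 := fun m => by
    apply (algebraMap K F).injective
    rw [RingHom.map_det, hT, map_one]
    exact (f m).2
  refine ⟨K, inferInstance, Fintype.ofFinite K, charP_of_injective_algebraMap' (ZMod r) r,
    { toFun := fun m => ⟨T m, hdet m⟩
      map_one' := Subtype.ext (hinj (by
        rw [hT, map_one]
        show _ = (algebraMap K F).mapMatrix (1 : Matrix (Fin 2) (Fin 2) K)
        rw [map_one]; rfl))
      map_mul' := fun a c => Subtype.ext (hinj (by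
        rw [hT, map_mul]
        show _ = (algebraMap K F).mapMatrix (T a * T c)
        rw [map_mul, hT, hT]; rfl)) }, fun a c h => hf (Subtype.ext ?_)⟩
  rw [← hT, ← hT]
  exact congrArg _ (congrArg Subtype.val h)

end Rep

section Group

variable {G : Type*} [Group G] [Finite G]

theorem classify_aux (h : HasFpfRep G) {L : Subgroup G} {S : Set L}
    (hS : Subgroup.closure S = ⊤) (hS3 : ∀ s ∈ S, s * s * s = 1)
    (hnc : ∀ s ∈ S, ∃ s' ∈ S, s * s' ≠ s' * s) (hne : S.Nonempty)
    (hdim : ∀ (F : Type) [Field F] [IsAlgClosed F] (V : Type) [AddCommGroup V] [Module F V]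
      [FiniteDimensional F V] [Nontrivial V] (σ : L →* Module.End F V), IsFpfRep σ →
      (∀ U : Submodule F V, (∀ f ∈ σ '' S, ∀ u ∈ U, f u ∈ U) → U = ⊥ ∨ U = ⊤) →
      Module.finrank F V = 2) :
    IsTwoA4 L ∨ IsTwoA5 L := by
  obtain ⟨r, hr, n, ρ, hn, hrL, hρ⟩ := h.subgroup L
  have : Nonempty (Fin n) := ⟨⟨0, hn⟩⟩
  obtain ⟨W, σ, hW, hσ, hirr⟩ := exists_irreducible_subrep hρ hS
  have h2 := hdim _ _ σ hσ hirr
  obtain ⟨f, hf⟩ := exists_sl2_hom h2 hσ.injective hS (fun s hs => hσ.order_three (fun e => by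
    obtain ⟨s', -, h'⟩ := hnc s hs
    exact h' (by rw [e, one_mul, mul_one])) (hS3 s hs)) hnc
  obtain ⟨K, _, _, _, g, hg⟩ := exists_sl2_hom_finite (r := r) f hf
  obtain ⟨a, ha⟩ := hne
  obtain ⟨b, hb, hab⟩ := hnc a ha
  rcases sl2_small g hg hrL hS hS3 ⟨a, ha, b, hb, hab⟩ with ⟨π, h1, h2, h3⟩ | ⟨π, h1, h2, h3⟩
  · exact Or.inl ⟨h3, π, h1, h2⟩
  · exact Or.inr ⟨h3, π, h1, h2⟩

omit [Finite G] in
theorem not_commute_of_isPos {x y : G} (hx : x * x * x = 1) (hy : y * y * y = 1) (h : IsPos x y) :
    x * y ≠ y * x := by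
  intro e
  apply h.1
  have h3 : (x * y) ^ 3 = 1 := by
    rw [Commute.mul_pow e, pow_three', pow_three', hx, hy, one_mul]
  have h4 : (x * y) ^ 4 = 1 := by
    simpa [pow_succ, mul_assoc] using h.2
  have : x * y = 1 := by rwa [pow_succ, h3, one_mul] at h4
  rw [this, one_mul]

theorem classify_pair (h : HasFpfRep G) {x y : G} (hx : x * x * x = 1) (hy : y * y * y = 1)
    (hne : x * y ≠ y * x) :
    IsTwoA4 (Subgroup.closure {x, y}) ∨ IsTwoA5 (Subgroup.closure {x, y}) := by
  set L := Subgroup.closure ({x, y} : Set G) with hL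
  let x' : L := ⟨x, Subgroup.subset_closure (by simp)⟩
  let y' : L := ⟨y, Subgroup.subset_closure (by simp)⟩
  have hne' : x' * y' ≠ y' * x' := fun e => hne (congrArg Subtype.val e)
  refine classify_aux h (L := L) (S := {x', y'}) ?_ ?_ ?_ ⟨x', by simp⟩ ?_
  · rw [show ({x', y'} : Set L) = Subtype.val ⁻¹' {x, y} by
      ext m; simp [x', y', Subtype.ext_iff]]
    exact Subgroup.closure_closure_coe_preimage
  · rintro s (rfl | rfl)
    exacts [Subtype.ext hx, Subtype.ext hy]
  · rintro s (rfl | rfl)
    exacts [⟨y', by simp, hne'⟩, ⟨x', by simp, fun e => hne' e.symm⟩]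
  · intro F _ _ V _ _ _ _ σ hσ hirr
    have hx1 : x' ≠ 1 := fun e => hne' (by rw [e, one_mul, mul_one])
    have hy1 : y' ≠ 1 := fun e => hne' (by rw [e, one_mul, mul_one])
    have := finrank_le_two_of_pair (σ x') (σ y') (hσ.order_three hx1 (Subtype.ext hx))
      (hσ.order_three hy1 (Subtype.ext hy)) (by rwa [Set.image_pair] at hirr)
    have := finrank_ne_one hσ.injective hne'
    have := Module.finrank_pos (R := F) (M := V)
    omega

theorem classify_triple (h : HasFpfRep G) {x y w : G} (hx : x * x * x = 1) (hy : y * y * y = 1)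
    (hw : w * w * w = 1) (hxy : IsPos x y) (hyw : IsPos y w) :
    IsTwoA4 (Subgroup.closure {x, y, w}) ∨ IsTwoA5 (Subgroup.closure {x, y, w}) := by
  set L := Subgroup.closure ({x, y, w} : Set G) with hL
  let x' : L := ⟨x, Subgroup.subset_closure (by simp)⟩
  let y' : L := ⟨y, Subgroup.subset_closure (by simp)⟩
  let w' : L := ⟨w, Subgroup.subset_closure (by simp)⟩
  have hne1 := not_commute_of_isPos hx hy hxy
  have hne2 := not_commute_of_isPos hy hw hyw
  have hne1' : x' * y' ≠ y' * x' := fun e => hne1 (congrArg Subtype.val e)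
  have hne2' : y' * w' ≠ w' * y' := fun e => hne2 (congrArg Subtype.val e)
  refine classify_aux h (L := L) (S := {x', y', w'}) ?_ ?_ ?_ ⟨x', by simp⟩ ?_
  · rw [show ({x', y', w'} : Set L) = Subtype.val ⁻¹' {x, y, w} by
      ext m; simp [x', y', w', Subtype.ext_iff]]
    exact Subgroup.closure_closure_coe_preimage
  · rintro s (rfl | rfl | rfl)
    exacts [Subtype.ext hx, Subtype.ext hy, Subtype.ext hw]
  · rintro s (rfl | rfl | rfl)
    exacts [⟨y', by simp, hne1'⟩, ⟨w', by simp, hne2'⟩, ⟨y', by simp, fun e => hne2' e.symm⟩]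
  · intro F _ _ V _ _ _ _ σ hσ hirr
    have hx1 : x' ≠ 1 := fun e => hne1' (by rw [e, one_mul, mul_one])
    have hy1 : y' ≠ 1 := fun e => hne1' (by rw [e, one_mul, mul_one])
    have hw1 : w' ≠ 1 := fun e => hne2' (by rw [e, one_mul, mul_one])
    have hX := hσ.order_three hx1 (Subtype.ext hx : x' * x' * x' = 1)
    have hY := hσ.order_three hy1 (Subtype.ext hy : y' * y' * y' = 1)
    have hW := hσ.order_three hw1 (Subtype.ext hw : w' * w' * w' = 1)
    have hneg : ∀ a c : L, IsPos (a : G) c → σ a * σ c * (σ a * σ c) = -1 := fun a c hac => by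
      rw [← map_mul, ← map_mul]
      exact hσ.involution (fun e => hac.1 (congrArg Subtype.val e)) (Subtype.ext hac.2)
    have t1 := hneg x' y' hxy
    have t2 := hneg y' w' hyw
    have h2 : (2 : F) ≠ 0 := fun h2 => by
      have e : σ (x' * y' * (x' * y')) = σ 1 := by
        rw [map_mul, map_mul, t1, map_one]
        refine LinearMap.ext fun v => ?_
        have : (2 : F) • v = 0 := by rw [h2, zero_smul]
        rw [two_smul] at this
        exact neg_eq_of_add_eq_zero_left this
      exact hxy.1 (congrArg Subtype.val (hσ.injective e))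
    have h3 : (3 : F) ≠ 0 := fun h3 => by
      obtain ⟨v, hv⟩ := exists_ne (0 : V)
      refine hv (hσ x' hx1 v ?_)
      have e := LinearMap.congr_fun hX v
      simp only [Module.End.mul_apply, LinearMap.sub_apply, LinearMap.neg_apply,
        Module.End.one_apply] at e
      refine sub_eq_zero.mp (hσ x' hx1 _ ?_)
      have : (3 : F) • σ x' v = 0 := by rw [h3, zero_smul]
      rw [map_sub, e]
      rw [show (3 : F) = 2 + 1 by norm_num, add_smul, two_smul, one_smul] at this
      linear_combination (norm := abel) (-1 : ℤ) • this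
    have hsXY := sInv_of_pos hX hY t1
    have hsYW := sInv_of_pos hY hW t2
    obtain ⟨s, hs⟩ := eq_smul_one_of_commute _ hirr (sInv (σ x') (σ w')) (by
      rintro f ⟨a, (rfl | rfl | rfl), rfl⟩
      · exact commute_sInv _ hX
      · exact commute_sInv_middle (by rw [sInv_comm, hsXY]) hsYW
      · rw [sInv_comm]; exact commute_sInv _ hW)
    set X := σ x'
    set Y := σ y'
    set W := σ w'
    have sq : ∀ A : Module.End F V, A * A = -A - 1 → (2 * A + 1) * (2 * A + 1) = -3 := fun A hA => by
      have : (2 * A + 1) * (2 * A + 1) = 4 * (A * A) + 4 * A + 1 := by noncomm_ring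
      rw [this, hA]; noncomm_ring; norm_num
    have anti : ∀ A B : Module.End F V,
        (2 * A + 1) * (2 * B + 1) + (2 * B + 1) * (2 * A + 1) = 4 * sInv A B + 2 := fun A B => by
      unfold sInv; noncomm_ring; norm_num; abel
    refine (finrank_eq_two_of_triple h2 h3 (2 * X + 1) (2 * Y + 1) (2 * W + 1) (4 * s + 2)
      (sq X hX) (sq Y hY) (sq W hW) ?_ ?_ ?_ fun U hU => hirr U ?_).1
    · rw [anti, hsXY]; norm_num
    · rw [anti, hsYW]; norm_num
    · rw [anti, hs, add_smul, mul_smul, ← map_ofNat (algebraMap F (Module.End F V)) 4,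
        ← map_ofNat (algebraMap F (Module.End F V)) 2, Algebra.algebraMap_eq_smul_one,
        Algebra.algebraMap_eq_smul_one, smul_mul_assoc, one_mul]
    · have half : ∀ A : Module.End F V, (∀ u ∈ U, (2 * A + 1) u ∈ U) → ∀ u ∈ U, A u ∈ U := by
        intro A hA u hu
        have h := U.smul_mem (2 : F)⁻¹ (U.sub_mem (hA u hu) hu)
        rwa [two_mul, LinearMap.add_apply, LinearMap.add_apply, Module.End.one_apply,
          add_sub_cancel_right, ← two_smul F, inv_smul_smul₀ h2] at h
      rintro f ⟨a, (rfl | rfl | rfl), rfl⟩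
      · exact half _ (hU _ (Or.inl rfl))
      · exact half _ (hU _ (Or.inr (Or.inl rfl)))
      · exact half _ (hU _ (Or.inr (Or.inr rfl)))

end Group

end Cfsg.Agent.Lib.Zass25
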