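import Cfsg.Agent.Lib.Zass25.Elements

/-!
A subgroup `2.A₅` of a fixed-point-free group contains every element of order three.
-/

set_option autoImplicit false

namespace Cfsg.Agent.Lib.Zass25

variable {G : Type*} [Group G]

theorem IsPos.conj_eq {a x : G} (ha : IsThree a) {t : G} (ht : a * x * (a * x) = t) :
    a * x * a⁻¹ = t * x⁻¹ * a := by
  rw [← ht, ha.inv_eq]
  have e : a⁻¹ = a * a := ha.inv_eq
  calc a * x * (a * a) = a * x * a⁻¹ := by rw [e]
    _ = a * x * a * (a⁻¹ * a⁻¹) := by group
    _ = a * x * a * (a * a * (a * a)) := by rw [e]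
    _ = a * x * a * a := by rw [ha.sq_sq]
    _ = a * x * (a * x) * x⁻¹ * a := by group

variable [Finite G]

theorem eq_of_isTwoA5 {L K : Subgroup G} (hL : IsTwoA5 L) (hK : IsTwoA5 K) (hle : L ≤ K) : L = K :=
  Subgroup.eq_of_le_of_card_ge hle (by rw [hL.1, hK.1])

theorem not_A5_le_A4 {L K : Subgroup G} (hL : IsTwoA5 L) (hK : IsTwoA4 K) : ¬ L ≤ K := fun hle => by
  have := Subgroup.card_le_of_le hle
  rw [hL.1, hK.1] at this
  omega

variable (h : HasFpfRep G)
include h

theorem triangle {a b p : G} (ha : IsThree a) (hb : IsThree b) (hp : IsThree p)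
    (hab : IsPos a b) (hap : IsPos a p) (hbp : IsPos b p) :
    IsTwoA5 (Subgroup.closure {a, b, p}) := by
  rcases classify_triple h ha.1 hb.1 hp.1 hab hbp with h4 | h5
  · exact (h4.no_triangle (Subgroup.subset_closure (by simp)) (Subgroup.subset_closure (by simp))
      (Subgroup.subset_closure (by simp)) ha hb hp hab hap hbp).elim
  · exact h5

theorem negative_mem {a b p : G} (ha : IsThree a) (hb : IsThree b) (hp : IsThree p)
    (hab : IsPos a b) (hap : IsPos a p) (hbp : IsPos b (p * p))
    {L : Subgroup G} (haL : a ∈ L) (hbL : b ∈ L) : p ∈ L := by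
  have hm : ∀ v ∈ ({b, a, p} : Set G), v ∈ Subgroup.closure {b, a, p} :=
    fun v hv => Subgroup.subset_closure hv
  have key : p = a * b * (a * a) ∨ p = a * a * b * a := by
    rcases classify_triple h hb.1 ha.1 hp.1 hab.symm hap with h4 | h5
    · exact h4.negative h (hm a (by simp)) (hm b (by simp)) (hm p (by simp)) ha hb hp hab hap hbp
    · exact h5.negative h (hm a (by simp)) (hm b (by simp)) (hm p (by simp)) ha hb hp hab hap hbp
  rcases key with e | e <;> rw [e]
  · exact mul_mem (mul_mem haL hbL) (mul_mem haL haL)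
  · exact mul_mem (mul_mem (mul_mem haL haL) hbL) haL

theorem not_four {a b p q : G} (ha : IsThree a) (hb : IsThree b) (hp : IsThree p)
    (hq : IsThree q) (hab : IsPos a b) (hap : IsPos a p) (hbp : IsPos b p) (haq : IsPos a q)
    (hbq : IsPos b q) (hpq : IsPos p q) : False := by
  have hK := triangle h hb hp hq hbp hbq hpq
  have hm : ∀ v ∈ ({b, p, q} : Set G), v ∈ Subgroup.closure {b, p, q} :=
    fun v hv => Subgroup.subset_closure hv
  obtain ⟨w, hwK, hw, e1, e2⟩ := hK.word h (hm b (by simp)) (hm p (by simp)) (hm q (by simp))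
    hb hp hq hbp hbq hpq
  set t := a * b * (a * b) with ht
  have htp : a * p * (a * p) = t := involution_eq h hap.1 hap.2 hab.1 hab.2
  have htq : a * q * (a * q) = t := involution_eq h haq.1 haq.2 hab.1 hab.2
  have htc := involution_central h hab.1 hab.2
  have tinv : t⁻¹ = t := inv_eq_of_mul_eq_one_right hab.2
  have fwd : ∀ x, a * x * (a * x) = t → a * x * a⁻¹ = t * x⁻¹ * a :=
    fun x hx => IsPos.conj_eq ha hx
  have bwd : ∀ x, a * x * (a * x) = t → a * x⁻¹ * a⁻¹ = a⁻¹ * x * t := fun x hx => by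
    calc a * x⁻¹ * a⁻¹ = (a * x * a⁻¹)⁻¹ := by group
      _ = (t * x⁻¹ * a)⁻¹ := by rw [fwd x hx]
      _ = a⁻¹ * x * t⁻¹ := by group
      _ = a⁻¹ * x * t := by rw [tinv]
  have hW : a * (b * (p * p) * (q * (b * b))) * a⁻¹ = b * b * p * (q * q * b) := by
    rw [← hb.inv_eq, ← hp.inv_eq, ← hq.inv_eq]
    calc a * (b * p⁻¹ * (q * b⁻¹)) * a⁻¹
        = (a * b * a⁻¹) * (a * p⁻¹ * a⁻¹) * ((a * q * a⁻¹) * (a * b⁻¹ * a⁻¹)) := by group
      _ = (t * b⁻¹ * a) * (a⁻¹ * p * t) * ((t * q⁻¹ * a) * (a⁻¹ * b * t)) := by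
          rw [fwd b ht.symm, bwd p htp, fwd q htq, bwd b ht.symm]
      _ = t * (b⁻¹ * p) * (t * t) * (q⁻¹ * b) * t := by group
      _ = t * (b⁻¹ * p * (q⁻¹ * b)) * t := by rw [hab.2]; group
      _ = b⁻¹ * p * (q⁻¹ * b) * t * t := by rw [← htc (b⁻¹ * p * (q⁻¹ * b))]
      _ = b⁻¹ * p * (q⁻¹ * b) * (t * t) := by rw [mul_assoc]
      _ = _ := by rw [hab.2, mul_one]
  have hc : Commute a w := by
    have e : a * w * a⁻¹ = w := by
      conv_lhs => rw [e1]
      rw [← conj_pow, hW, ← e2]
    exact mul_inv_eq_iff_eq_mul.mp e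
  exact hK.no_four (three_mem_of_commute h ha hw hc hwK) (hm b (by simp)) (hm p (by simp))
    (hm q (by simp)) ha hb hp hq hab hap hbp haq hbq hpq

/-- Extending a positive pair inside `L`. -/
theorem mem_of_pos {L : Subgroup G} (hL : IsTwoA5 L) {a w : G} (haL : a ∈ L) (ha : IsThree a)
    (hw : IsThree w) (haw : IsPos a w) : w ∈ L := by
  obtain ⟨b, hbL, hb, hab⟩ := hL.exists_pos h haL ha
  by_cases hc : Commute w b
  · exact three_mem_of_commute h hw hb hc hbL
  by_cases hn : IsPos b (w * w)
  · exact negative_mem h ha hb hw hab haw hn haL hbL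
  have hsub : ∀ v ∈ ({b, a, w} : Set G), v ∈ Subgroup.closure {b, a, w} :=
    fun v hv => Subgroup.subset_closure hv
  have hK : IsTwoA5 (Subgroup.closure {b, a, w}) := by
    rcases classify_triple h hb.1 ha.1 hw.1 hab.symm haw with h4 | h5
    · exfalso
      rcases h4.pair h (hsub b (by simp)) (hsub w (by simp)) hb hw with e | e | e
      · exact hc e.symm
      · exact h4.no_triangle (hsub a (by simp)) (hsub b (by simp)) (hsub w (by simp)) ha hb hw
          hab haw e
      · exact hn e
    · exact h5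
  set K := Subgroup.closure {b, a, w} with hKdef
  obtain ⟨p, hpL, hp, hap, hbp⟩ := hL.common h haL hbL ha hb hab
  obtain ⟨q, hqK, hq, haq, hbq⟩ :=
    hK.common h (hsub a (by simp)) (hsub b (by simp)) ha hb hab
  have hLgen : Subgroup.closure {a, b, p} = L := eq_of_isTwoA5 (triangle h ha hb hp hab hap hbp) hL
    ((Subgroup.closure_le L).mpr (by simp [Set.insert_subset_iff, haL, hbL, hpL]))
  have hKgen : Subgroup.closure {a, b, q} = K := eq_of_isTwoA5 (triangle h ha hb hq hab haq hbq) hK
    ((Subgroup.closure_le K).mpr (by simp [Set.insert_subset_iff, hsub, hqK]))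
  suffices hqL : q ∈ L by
    have hle : K ≤ L := by
      rw [← hKgen]
      exact (Subgroup.closure_le L).mpr (by simp [Set.insert_subset_iff, haL, hbL, hqL])
    exact hle (hsub w (by simp))
  by_cases hc' : Commute q p
  · exact three_mem_of_commute h hq hp hc' hpL
  by_cases hn' : IsPos p (q * q)
  · exact negative_mem h ha hp hq hap haq hn' haL hpL
  by_cases hpq : IsPos p q
  · exact (not_four h ha hb hp hq hab hap hbp haq hbq hpq).elim
  have hM : IsTwoA5 (Subgroup.closure {p, q}) := by
    rcases classify_pair h hp.1 hq.1 (fun e => hc' e.symm) with h4 | h5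
    · rcases h4.pair h (Subgroup.subset_closure (by simp)) (Subgroup.subset_closure (by simp)) hp hq
        with e | e | e
      · exact absurd e.symm hc'
      · exact absurd e hpq
      · exact absurd e hn'
    · exact h5
  have hmem : ∀ x, IsThree x → IsPos x p → IsPos x q → x ∈ Subgroup.closure {p, q} := by
    intro x hx hxp hxq
    have hle : Subgroup.closure {p, q} ≤ Subgroup.closure {p, x, q} :=
      Subgroup.closure_mono (by simp [Set.insert_subset_iff])
    rcases classify_triple h hp.1 hx.1 hq.1 hxp.symm hxq with h4 | h5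
    · exact absurd hle (not_A5_le_A4 hM h4)
    · rw [eq_of_isTwoA5 hM h5 hle]
      exact Subgroup.subset_closure (by simp)
  have hLM : L ≤ Subgroup.closure {p, q} := by
    rw [← hLgen]
    refine (Subgroup.closure_le _).mpr ?_
    rintro v (rfl | rfl | rfl)
    exacts [hmem _ ha hap haq, hmem _ hb hbp hbq, Subgroup.subset_closure (by simp)]
  rw [eq_of_isTwoA5 hL hM hLM]
  exact Subgroup.subset_closure (by simp)

/-- A `2.A₅` contains all elements of order three. -/
theorem three_mem {L : Subgroup G} (hL : IsTwoA5 L) {w : G} (hw : IsThree w) : w ∈ L := by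
  obtain ⟨x, hxL, hx⟩ := hL.exists_three h
  have step : ∀ {c y : G}, c ∈ L → IsThree c → IsThree y → IsPos c y ∨ IsPos c (y * y) → y ∈ L := by
    intro c y hcL hc hy hpos
    rcases hpos with e | e
    · exact mem_of_pos h hL hcL hc hy e
    · exact hy.sq_sq ▸ mul_mem (mem_of_pos h hL hcL hc hy.sq e) (mem_of_pos h hL hcL hc hy.sq e)
  by_cases hc : Commute w x
  · exact three_mem_of_commute h hw hx hc hxL
  rcases classify_pair h hx.1 hw.1 (fun e => hc e.symm) with h4 | h5
  · rcases h4.pair h (Subgroup.subset_closure (by simp)) (Subgroup.subset_closure (by simp)) hx hw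
      with e | e | e
    · exact absurd e.symm hc
    · exact step hxL hx hw (Or.inl e)
    · exact step hxL hx hw (Or.inr e)
  · rcases h5.pair h (Subgroup.subset_closure (by simp)) (Subgroup.subset_closure (by simp)) hx hw
      with e | e | e | ⟨c, -, hc', exc, ecw⟩
    · exact absurd e.symm hc
    · exact step hxL hx hw (Or.inl e)
    · exact step hxL hx hw (Or.inr e)
    · exact step (mem_of_pos h hL hxL hx hc' exc) hc' hw ecw

theorem eq_closure_threes {L : Subgroup G} (hL : IsTwoA5 L) :
    Subgroup.closure {x : G | IsThree x} = L := by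
  refine le_antisymm ((Subgroup.closure_le L).mpr fun x hx => three_mem h hL hx) ?_
  obtain ⟨a, haL, ha⟩ := hL.exists_three h
  obtain ⟨b, hbL, hb, hab⟩ := hL.exists_pos h haL ha
  obtain ⟨c, hcL, hc, hac, hbc⟩ := hL.common h haL hbL ha hb hab
  rw [← eq_of_isTwoA5 (triangle h ha hb hc hab hac hbc) hL
    ((Subgroup.closure_le L).mpr (by simp [Set.insert_subset_iff, haL, hbL, hcL]))]
  refine Subgroup.closure_mono ?_
  simp [Set.insert_subset_iff, ha, hb, hc]

theorem isTwoA5_unique {L K : Subgroup G} (hL : IsTwoA5 L) (hK : IsTwoA5 K) : L = K :=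
  (eq_closure_threes h hL).symm.trans (eq_closure_threes h hK)

theorem IsTwoA5.normal {L : Subgroup G} (hL : IsTwoA5 L) : L.Normal := by
  refine ⟨fun n hn g => ?_⟩
  have hle : Subgroup.closure {x : G | IsThree x} ≤ L.comap (MulAut.conj g).toMonoidHom := by
    refine (Subgroup.closure_le _).mpr fun x hx => ?_
    exact three_mem h hL (IsThree.conj hx g)
  rw [eq_closure_threes h hL] at hle
  exact hle hn

end Cfsg.Agent.Lib.Zass25
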