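import Mathlib

/-!
Finite facts on pairs and triples of elements of order three in `A₄` and `A₅`.
-/

set_option autoImplicit false

namespace Cfsg.Agent.Lib.Zass25

open Equiv

/-- The twenty elements of order three of `Perm (Fin 5)`. -/
def threes : List (Perm (Fin 5)) :=
  (([[0,1,2],[0,1,3],[0,1,4],[0,2,3],[0,2,4],[0,3,4],[1,2,3],[1,2,4],[1,3,4],[2,3,4]] :
      List (List (Fin 5))).flatMap fun l => [l.formPerm, l.reverse.formPerm])

theorem mem_threes : ∀ x : Perm (Fin 5), x * x * x = 1 → x ≠ 1 → x ∈ threes := by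
  decide +kernel

/-- `x`, `y` form a positive pair. -/
abbrev Pos {M : Type*} [Monoid M] (x y : M) : Prop := x * y * (x * y) = 1 ∧ x * y ≠ 1

theorem five_pair : ∀ x ∈ threes, ∀ y ∈ threes, x * y = y * x ∨ Pos x y ∨ Pos x (y * y) ∨
    ∃ c ∈ threes, Pos x c ∧ (Pos c y ∨ Pos c (y * y)) := by
  decide +kernel

theorem five_exists : ∀ x ∈ threes, ∃ y ∈ threes, Pos x y := by
  decide +kernel

theorem five_common : ∀ x ∈ threes, ∀ y ∈ threes, Pos x y →
    ∃ c ∈ threes, Pos x c ∧ Pos y c := by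
  decide +kernel

theorem five_negative : ∀ a ∈ threes, ∀ b ∈ threes, Pos a b → ∀ p ∈ threes, Pos a p →
    Pos b (p * p) → p = a * b * (a * a) ∨ p = a * a * b * a := by
  decide +kernel

theorem five_no_four : ∀ a ∈ threes, ∀ b ∈ threes, Pos a b → ∀ p ∈ threes, Pos a p →
    Pos b p → ∀ q ∈ threes, Pos a q → Pos b q → Pos p q → False := by
  decide +kernel

theorem five_word : ∀ b ∈ threes, ∀ p ∈ threes, Pos b p → ∀ q ∈ threes, Pos b q → Pos p q →
    b * (p * p) * (q * (b * b)) = b * b * p * (q * q * b) ∧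
    b * (p * p) * (q * (b * b)) ≠ 1 ∧
    b * (p * p) * (q * (b * b)) * (b * (p * p) * (q * (b * b))) * (b * (p * p) * (q * (b * b))) = 1
    := by
  decide +kernel

/-- The eight elements of order three of `Perm (Fin 4)`. -/
def fourThrees : List (Perm (Fin 4)) :=
  (([[0,1,2],[0,1,3],[0,2,3],[1,2,3]] : List (List (Fin 4))).flatMap
    fun l => [l.formPerm, l.reverse.formPerm])

theorem mem_fourThrees : ∀ x : Perm (Fin 4), x * x * x = 1 → x ≠ 1 → x ∈ fourThrees := by
  decide +kernel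

theorem four_pair : ∀ x ∈ fourThrees, ∀ y ∈ fourThrees,
    x * y = y * x ∨ Pos x y ∨ Pos x (y * y) := by
  decide +kernel

theorem four_negative : ∀ a ∈ fourThrees, ∀ b ∈ fourThrees, Pos a b → ∀ p ∈ fourThrees, Pos a p →
    Pos b (p * p) → p = a * b * (a * a) ∨ p = a * a * b * a := by
  decide +kernel

theorem four_no_triangle : ∀ a ∈ fourThrees, ∀ b ∈ fourThrees, Pos a b → ∀ p ∈ fourThrees,
    Pos a p → Pos b p → False := by
  decide +kernel

end Cfsg.Agent.Lib.Zass25
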