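import Cfsg.Agent.Lib.Zass25.Classify
import Cfsg.Agent.Lib.Zass25.Facts

/-!
Elements of order three inside the subgroups `2.A₄` and `2.A₅`.
-/

set_option autoImplicit false

namespace Cfsg.Agent.Lib.Zass25

variable {G : Type*} [Group G]

/-- An element of order three. -/
def IsThree (x : G) : Prop := x * x * x = 1 ∧ x ≠ 1

theorem IsThree.inv_eq {x : G} (hx : IsThree x) : x⁻¹ = x * x :=
  inv_eq_of_mul_eq_one_right (by rw [← mul_assoc]; exact hx.1)

theorem IsThree.sq {x : G} (hx : IsThree x) : IsThree (x * x) := by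
  have h2 := hx.1
  refine ⟨?_, fun h => hx.2 (by rwa [h, one_mul] at h2)⟩
  rw [show x * x * (x * x) * (x * x) = x * x * x * (x * x * x) by simp only [mul_assoc], h2, one_mul]

theorem IsThree.sq_sq {x : G} (hx : IsThree x) : x * x * (x * x) = x := by
  rw [← mul_assoc, hx.1, one_mul]

theorem IsThree.conj {x : G} (hx : IsThree x) (g : G) : IsThree (g * x * g⁻¹) := by
  refine ⟨?_, fun h => hx.2 (conj_eq_one_iff.mp h)⟩
  rw [show g * x * g⁻¹ * (g * x * g⁻¹) * (g * x * g⁻¹) = g * (x * x * x) * g⁻¹ by group, hx.1]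
  group

theorem eq_one_of_sq_of_three {x : G} (h2 : x * x = 1) (h3 : x * x * x = 1) : x = 1 := by
  rwa [h2, one_mul] at h3

section Fpf

variable [Finite G] (h : HasFpfRep G)
include h

theorem involution_eq {a b : G} (ha : a ≠ 1) (ha2 : a * a = 1) (hb : b ≠ 1) (hb2 : b * b = 1) :
    a = b := by
  obtain ⟨r, hr, n, ρ, hn, -, hρ⟩ := h
  have : Nonempty (Fin n) := ⟨⟨0, hn⟩⟩
  exact hρ.injective (by rw [hρ.involution ha ha2, hρ.involution hb hb2])

theorem involution_central {t : G} (ht : t ≠ 1) (ht2 : t * t = 1) (g : G) : g * t = t * g := by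
  have := involution_eq h (a := g * t * g⁻¹) (b := t) (fun e => ht (conj_eq_one_iff.mp e))
    (by rw [show g * t * g⁻¹ * (g * t * g⁻¹) = g * (t * t) * g⁻¹ by group, ht2]; group) ht ht2
  calc g * t = g * t * g⁻¹ * g := by group
    _ = t * g := by rw [this]

/-- Commuting elements of prime order generate a cyclic group. -/
theorem mem_zpowers_of_commute {p : ℕ} (hp : p.Prime) {x z : G} (hz : z ^ p = 1) (hz1 : z ≠ 1)
    (hx : x ^ p = 1) (hc : Commute x z) : x ∈ Subgroup.zpowers z := by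
  classical
  set L := Subgroup.closure ({x, z} : Set G)
  let x' : L := ⟨x, Subgroup.subset_closure (by simp)⟩
  let z' : L := ⟨z, Subgroup.subset_closure (by simp)⟩
  have hS : Subgroup.closure ({x', z'} : Set L) = ⊤ := by
    rw [show ({x', z'} : Set L) = Subtype.val ⁻¹' {x, z} by
      ext m; simp [x', z', Subtype.ext_iff]]
    exact Subgroup.closure_closure_coe_preimage
  obtain ⟨r, hr, n, ρ, hn, -, hρ⟩ := h.subgroup L
  have : Nonempty (Fin n) := ⟨⟨0, hn⟩⟩
  obtain ⟨W, σ, hW, hσ, hirr⟩ := exists_irreducible_subrep hρ hS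
  have hc' : Commute x' z' := Subtype.ext hc
  obtain ⟨a, ha⟩ := eq_smul_one_of_commute _ hirr (σ x') (by
    rintro f ⟨u, (rfl | rfl), rfl⟩
    · exact Commute.refl _
    · exact (hc'.map σ).symm)
  obtain ⟨b, hb⟩ := eq_smul_one_of_commute _ hirr (σ z') (by
    rintro f ⟨u, (rfl | rfl), rfl⟩
    · exact hc'.map σ
    · exact Commute.refl _)
  have hpow : ∀ (c : AlgebraicClosure (ZMod r)) (i : ℕ),
      (c • (1 : Module.End (AlgebraicClosure (ZMod r)) W)) ^ i = c ^ i • 1 := fun c i => by rw [smul_pow, one_pow]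
  have hinj : ∀ c d : AlgebraicClosure (ZMod r), c • (1 : Module.End (AlgebraicClosure (ZMod r)) W) = d • 1 → c = d := by
    intro c d e
    obtain ⟨v, hv⟩ := exists_ne (0 : W)
    exact smul_left_injective _ hv (LinearMap.congr_fun e v)
  have key : ∀ {u : L} {c : AlgebraicClosure (ZMod r)}, σ u = c • 1 → (u : G) ^ p = 1 → c ^ p = 1 :=
    fun {u c} hu hup => hinj _ _ (by
      rw [← hpow, ← hu, ← map_pow, show u ^ p = 1 from Subtype.ext hup, map_one, one_smul])
  have hb1 : b ≠ 1 := fun e => hz1 (congrArg Subtype.val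
    (hσ.injective (hb.trans (by rw [e, one_smul, map_one])) : z' = 1))
  have := Fact.mk hp
  have hprim : IsPrimitiveRoot b p :=
    (orderOf_eq_prime (key hb hz) hb1) ▸ IsPrimitiveRoot.orderOf b
  have : NeZero p := ⟨hp.ne_zero⟩
  obtain ⟨i, -, hi⟩ := hprim.eq_pow_of_pow_eq_one (key ha hx)
  have e : x' = z' ^ i := hσ.injective (by rw [map_pow, ha, hb, hpow, hi])
  exact ⟨i, by simpa [x', z'] using (congrArg Subtype.val e).symm⟩

theorem three_mem_of_commute {x z : G} (hx : IsThree x) (hz : IsThree z) (hc : Commute x z)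
    {L : Subgroup G} (hzL : z ∈ L) : x ∈ L :=
  (Subgroup.zpowers_le.mpr hzL) (mem_zpowers_of_commute h Nat.prime_three
    (by rw [pow_three']; exact hz.1) hz.2 (by rw [pow_three']; exact hx.1) hc)

section Translate

variable {L : Subgroup G} {n : ℕ} {π : L →* Equiv.Perm (Fin n)} (hπ : ∀ m, π m = 1 ↔ m * m = 1)
include hπ

omit [Finite G] h in
theorem image_three {m : L} (hm : IsThree (m : G)) :
    π m * π m * π m = 1 ∧ π m ≠ 1 := by
  refine ⟨?_, fun e => hm.2 ?_⟩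
  · rw [← map_mul, ← map_mul, show m * m * m = 1 from Subtype.ext hm.1, map_one]
  · exact eq_one_of_sq_of_three (congrArg Subtype.val ((hπ m).1 e)) hm.1

omit [Finite G] h in
theorem pos_iff {m k : L} : IsPos (m : G) k ↔ Pos (π m) (π k) := by
  have e : π m * π k * (π m * π k) = π (m * k * (m * k)) := by simp only [map_mul]
  constructor
  · rintro ⟨h1, h2⟩
    refine ⟨by rw [e]; exact (hπ _).2 (Subtype.ext h2), fun h3 => h1 ?_⟩
    exact congrArg Subtype.val ((hπ _).1 ((map_mul π m k).trans h3))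
  · rintro ⟨h1, h2⟩
    rw [e] at h1
    refine ⟨fun h3 => h2 ?_, congrArg Subtype.val ((hπ _).1 h1)⟩
    rw [← map_mul]; exact (hπ _).2 (Subtype.ext h3)

theorem image_injOn {m k : L} (hm : IsThree (m : G)) (hk : IsThree (k : G)) (e : π m = π k) :
    m = k := by
  have h1 : π (m⁻¹ * k) = 1 := by rw [map_mul, map_inv, e, inv_mul_cancel]
  have h2 := congrArg Subtype.val ((hπ _).1 h1)
  by_contra hne
  set t := ((m⁻¹ * k : L) : G) with ht
  have ht1 : t ≠ 1 := fun e1 => hne (by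
    have : m⁻¹ * k = 1 := Subtype.ext e1
    exact (inv_mul_eq_one.mp this))
  have hk' : (k : G) = m * t := by rw [ht]; simp
  have hc := involution_central h ht1 h2
  refine ht1 (eq_one_of_sq_of_three h2 ?_)
  have := hk.1
  rw [hk'] at this
  have hpow : ((m : G) * t) ^ 3 = (m : G) ^ 3 * t ^ 3 := Commute.mul_pow (hc m) 3
  rw [pow_three', pow_three', pow_three', this, hm.1, one_mul] at hpow
  exact hpow.symm

theorem commute_of_image {m k : L} (hm : IsThree (m : G)) (hk : IsThree (k : G))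
    (e : π m * π k = π k * π m) : Commute (m : G) k := by
  have h1 : π (k * m * k⁻¹) = π m := by rw [map_mul, map_mul, ← e, map_inv, mul_inv_cancel_right]
  have h2 := image_injOn h hπ (m := k * m * k⁻¹) (by simpa using hm.conj (k : G)) hm h1
  exact congrArg Subtype.val (show m * k = k * m by rw [← mul_inv_eq_iff_eq_mul.mp h2])

omit [Finite G] h in
theorem exists_lift {s : Equiv.Perm (Fin n)} (hs : s ∈ π.range) (h3 : s * s * s = 1) (h1 : s ≠ 1) :
    ∃ m : L, IsThree (m : G) ∧ π m = s := by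
  obtain ⟨k, rfl⟩ := hs
  have h6 : k ^ 3 * k ^ 3 = 1 := (hπ _).1 (by rw [map_pow, pow_three', h3])
  have e : π (k ^ 4) = π k := by rw [map_pow, pow_succ, pow_three', h3, one_mul]
  have hc : k ^ 4 * k ^ 4 * k ^ 4 = 1 := by
    rw [← pow_add, ← pow_add, show 4 + 4 + 4 = (3 + 3) * 2 by rfl, pow_mul, pow_add, h6, one_pow]
  refine ⟨k ^ 4, ⟨congrArg Subtype.val hc, fun e1 => h1 ?_⟩, e⟩
  rw [← e, show k ^ 4 = 1 from Subtype.ext e1, map_one]

end Translate

/-! ### `2.A₄` -/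

theorem IsTwoA4.pair {L : Subgroup G} (hL : IsTwoA4 L) {x y : G} (hxL : x ∈ L) (hyL : y ∈ L)
    (hx : IsThree x) (hy : IsThree y) : Commute x y ∨ IsPos x y ∨ IsPos x (y * y) := by
  obtain ⟨-, π, hπ, -⟩ := hL
  obtain ⟨a1, a2⟩ := image_three hπ (m := ⟨x, hxL⟩) hx
  obtain ⟨b1, b2⟩ := image_three hπ (m := ⟨y, hyL⟩) hy
  rcases four_pair _ (mem_fourThrees _ a1 a2) _ (mem_fourThrees _ b1 b2) with e | e | e
  · exact Or.inl (commute_of_image h hπ (m := ⟨x, hxL⟩) (k := ⟨y, hyL⟩) hx hy e)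
  · exact Or.inr (Or.inl ((pos_iff hπ).2 e))
  · rw [← map_mul] at e
    exact Or.inr (Or.inr ((pos_iff hπ (m := ⟨x, hxL⟩) (k := ⟨y, hyL⟩ * ⟨y, hyL⟩)).2 e))

theorem IsTwoA4.negative {L : Subgroup G} (hL : IsTwoA4 L) {a b p : G} (haL : a ∈ L) (hbL : b ∈ L)
    (hpL : p ∈ L) (ha : IsThree a) (hb : IsThree b) (hp : IsThree p) (hab : IsPos a b)
    (hap : IsPos a p) (hbp : IsPos b (p * p)) : p = a * b * (a * a) ∨ p = a * a * b * a := by
  obtain ⟨-, π, hπ, -⟩ := hL
  let a' : L := ⟨a, haL⟩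
  let b' : L := ⟨b, hbL⟩
  let p' : L := ⟨p, hpL⟩
  obtain ⟨a1, a2⟩ := image_three hπ (m := a') ha
  obtain ⟨b1, b2⟩ := image_three hπ (m := b') hb
  obtain ⟨p1, p2⟩ := image_three hπ (m := p') hp
  have hbp' : Pos (π b') (π p' * π p') := by
    rw [← map_mul]; exact (pos_iff hπ (m := b') (k := p' * p')).1 hbp
  rcases four_negative _ (mem_fourThrees _ a1 a2) _ (mem_fourThrees _ b1 b2)
    ((pos_iff hπ).1 hab) _ (mem_fourThrees _ p1 p2) ((pos_iff hπ).1 hap) hbp' with e | e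
  · left
    rw [← map_mul, ← map_mul, ← map_mul] at e
    refine congrArg Subtype.val (image_injOn h hπ (m := p') (k := a' * b' * (a' * a')) hp ?_ e)
    have := hb.conj a
    rw [ha.inv_eq] at this
    simpa [a', b'] using this
  · right
    rw [← map_mul, ← map_mul, ← map_mul] at e
    refine congrArg Subtype.val (image_injOn h hπ (m := p') (k := a' * a' * b' * a') hp ?_ e)
    have := hb.conj (a * a)
    rw [ha.sq.inv_eq, ha.sq_sq] at this
    simpa [a', b'] using this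

omit [Finite G] h in
theorem IsTwoA4.no_triangle {L : Subgroup G} (hL : IsTwoA4 L) {a b p : G} (haL : a ∈ L)
    (hbL : b ∈ L) (hpL : p ∈ L) (ha : IsThree a) (hb : IsThree b) (hp : IsThree p)
    (hab : IsPos a b) (hap : IsPos a p) (hbp : IsPos b p) : False := by
  obtain ⟨-, π, hπ, -⟩ := hL
  obtain ⟨a1, a2⟩ := image_three hπ (m := ⟨a, haL⟩) ha
  obtain ⟨b1, b2⟩ := image_three hπ (m := ⟨b, hbL⟩) hb
  obtain ⟨p1, p2⟩ := image_three hπ (m := ⟨p, hpL⟩) hp
  exact four_no_triangle _ (mem_fourThrees _ a1 a2) _ (mem_fourThrees _ b1 b2)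
    ((pos_iff hπ).1 hab) _ (mem_fourThrees _ p1 p2) ((pos_iff hπ).1 hap) ((pos_iff hπ).1 hbp)

/-! ### `2.A₅` -/

theorem sign_three : ∀ s ∈ threes, Equiv.Perm.sign s = 1 := by
  clear h
  decide +kernel

theorem IsTwoA5.exists_three_eq {L : Subgroup G} (π : L →* Equiv.Perm (Fin 5))
    (hπ : ∀ m, π m = 1 ↔ m * m = 1) (hr : π.range = alternatingGroup (Fin 5))
    {s : Equiv.Perm (Fin 5)} (hs : s ∈ threes) : ∃ m : L, IsThree (m : G) ∧ π m = s := by
  have key : ∀ u ∈ threes, u * u * u = 1 ∧ u ≠ 1 := by decide +kernel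
  exact exists_lift hπ (hr ▸ Equiv.Perm.mem_alternatingGroup.mpr (sign_three h s hs))
    (key s hs).1 (key s hs).2

theorem IsTwoA5.exists_three {L : Subgroup G} (hL : IsTwoA5 L) : ∃ a ∈ L, IsThree a := by
  obtain ⟨-, π, hπ, hr⟩ := hL
  obtain ⟨m, hm, -⟩ := IsTwoA5.exists_three_eq h π hπ hr
    (s := List.formPerm [0, 1, 2]) (mem_threes _ (by decide +kernel) (by decide +kernel))
  exact ⟨m, m.2, hm⟩

theorem IsTwoA5.exists_pos {L : Subgroup G} (hL : IsTwoA5 L) {a : G} (haL : a ∈ L)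
    (ha : IsThree a) : ∃ b ∈ L, IsThree b ∧ IsPos a b := by
  obtain ⟨-, π, hπ, hr⟩ := hL
  obtain ⟨a1, a2⟩ := image_three hπ (m := ⟨a, haL⟩) ha
  obtain ⟨s, hs, hpos⟩ := five_exists _ (mem_threes _ a1 a2)
  obtain ⟨m, hm, rfl⟩ := IsTwoA5.exists_three_eq h π hπ hr hs
  exact ⟨m, m.2, hm, (pos_iff hπ).2 hpos⟩

theorem IsTwoA5.common {L : Subgroup G} (hL : IsTwoA5 L) {a b : G} (haL : a ∈ L) (hbL : b ∈ L)
    (ha : IsThree a) (hb : IsThree b) (hab : IsPos a b) :
    ∃ c ∈ L, IsThree c ∧ IsPos a c ∧ IsPos b c := by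
  obtain ⟨-, π, hπ, hr⟩ := hL
  obtain ⟨a1, a2⟩ := image_three hπ (m := ⟨a, haL⟩) ha
  obtain ⟨b1, b2⟩ := image_three hπ (m := ⟨b, hbL⟩) hb
  obtain ⟨s, hs, h1, h2⟩ := five_common _ (mem_threes _ a1 a2) _ (mem_threes _ b1 b2)
    ((pos_iff hπ).1 hab)
  obtain ⟨m, hm, rfl⟩ := IsTwoA5.exists_three_eq h π hπ hr hs
  exact ⟨m, m.2, hm, (pos_iff hπ).2 h1, (pos_iff hπ).2 h2⟩

theorem IsTwoA5.negative {L : Subgroup G} (hL : IsTwoA5 L) {a b p : G} (haL : a ∈ L) (hbL : b ∈ L)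
    (hpL : p ∈ L) (ha : IsThree a) (hb : IsThree b) (hp : IsThree p) (hab : IsPos a b)
    (hap : IsPos a p) (hbp : IsPos b (p * p)) : p = a * b * (a * a) ∨ p = a * a * b * a := by
  obtain ⟨-, π, hπ, -⟩ := hL
  let a' : L := ⟨a, haL⟩
  let b' : L := ⟨b, hbL⟩
  let p' : L := ⟨p, hpL⟩
  obtain ⟨a1, a2⟩ := image_three hπ (m := a') ha
  obtain ⟨b1, b2⟩ := image_three hπ (m := b') hb
  obtain ⟨p1, p2⟩ := image_three hπ (m := p') hp
  have hbp' : Pos (π b') (π p' * π p') := by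
    rw [← map_mul]; exact (pos_iff hπ (m := b') (k := p' * p')).1 hbp
  rcases five_negative _ (mem_threes _ a1 a2) _ (mem_threes _ b1 b2)
    ((pos_iff hπ).1 hab) _ (mem_threes _ p1 p2) ((pos_iff hπ).1 hap) hbp' with e | e
  · left
    rw [← map_mul, ← map_mul, ← map_mul] at e
    refine congrArg Subtype.val (image_injOn h hπ (m := p') (k := a' * b' * (a' * a')) hp ?_ e)
    have := hb.conj a
    rw [ha.inv_eq] at this
    simpa [a', b'] using this
  · right
    rw [← map_mul, ← map_mul, ← map_mul] at e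
    refine congrArg Subtype.val (image_injOn h hπ (m := p') (k := a' * a' * b' * a') hp ?_ e)
    have := hb.conj (a * a)
    rw [ha.sq.inv_eq, ha.sq_sq] at this
    simpa [a', b'] using this

omit [Finite G] h in
theorem IsTwoA5.no_four {L : Subgroup G} (hL : IsTwoA5 L) {a b p q : G} (haL : a ∈ L)
    (hbL : b ∈ L) (hpL : p ∈ L) (hqL : q ∈ L) (ha : IsThree a) (hb : IsThree b) (hp : IsThree p)
    (hq : IsThree q) (hab : IsPos a b) (hap : IsPos a p) (hbp : IsPos b p) (haq : IsPos a q)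
    (hbq : IsPos b q) (hpq : IsPos p q) : False := by
  obtain ⟨-, π, hπ, -⟩ := hL
  obtain ⟨a1, a2⟩ := image_three hπ (m := ⟨a, haL⟩) ha
  obtain ⟨b1, b2⟩ := image_three hπ (m := ⟨b, hbL⟩) hb
  obtain ⟨p1, p2⟩ := image_three hπ (m := ⟨p, hpL⟩) hp
  obtain ⟨q1, q2⟩ := image_three hπ (m := ⟨q, hqL⟩) hq
  exact five_no_four _ (mem_threes _ a1 a2) _ (mem_threes _ b1 b2) ((pos_iff hπ).1 hab)
    _ (mem_threes _ p1 p2) ((pos_iff hπ).1 hap) ((pos_iff hπ).1 hbp)
    _ (mem_threes _ q1 q2) ((pos_iff hπ).1 haq) ((pos_iff hπ).1 hbq) ((pos_iff hπ).1 hpq)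

theorem IsTwoA5.pair {L : Subgroup G} (hL : IsTwoA5 L) {x y : G} (hxL : x ∈ L) (hyL : y ∈ L)
    (hx : IsThree x) (hy : IsThree y) : Commute x y ∨ IsPos x y ∨ IsPos x (y * y) ∨
      ∃ c ∈ L, IsThree c ∧ IsPos x c ∧ (IsPos c y ∨ IsPos c (y * y)) := by
  obtain ⟨-, π, hπ, hr⟩ := hL
  let x' : L := ⟨x, hxL⟩
  let y' : L := ⟨y, hyL⟩
  obtain ⟨a1, a2⟩ := image_three hπ (m := x') hx
  obtain ⟨b1, b2⟩ := image_three hπ (m := y') hy
  rcases five_pair _ (mem_threes _ a1 a2) _ (mem_threes _ b1 b2) with e | e | e | ⟨s, hs, e1, e2⟩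
  · exact Or.inl (commute_of_image h hπ (m := x') (k := y') hx hy e)
  · exact Or.inr (Or.inl ((pos_iff hπ).2 e))
  · rw [← map_mul] at e
    exact Or.inr (Or.inr (Or.inl ((pos_iff hπ (m := x') (k := y' * y')).2 e)))
  · obtain ⟨m, hm, rfl⟩ := IsTwoA5.exists_three_eq h π hπ hr hs
    refine Or.inr (Or.inr (Or.inr ⟨m, m.2, hm, (pos_iff hπ).2 e1, ?_⟩))
    rcases e2 with e2 | e2
    · exact Or.inl ((pos_iff hπ).2 e2)
    · rw [← map_mul] at e2
      exact Or.inr ((pos_iff hπ (m := m) (k := y' * y')).2 e2)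

/-- In a triangle `b, p, q` a suitable word has order three in the image and its reverse agrees. -/
theorem IsTwoA5.word {L : Subgroup G} (hL : IsTwoA5 L) {b p q : G}
    (hbL : b ∈ L) (hpL : p ∈ L) (hqL : q ∈ L) (hb : IsThree b) (hp : IsThree p) (hq : IsThree q)
    (hbp : IsPos b p) (hbq : IsPos b q) (hpq : IsPos p q) :
    ∃ w, w ∈ L ∧ IsThree w ∧ w = (b * (p * p) * (q * (b * b))) ^ 4 ∧
      w = (b * b * p * (q * q * b)) ^ 4 := by
  obtain ⟨-, π, hπ, -⟩ := hL
  let b' : L := ⟨b, hbL⟩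
  let p' : L := ⟨p, hpL⟩
  let q' : L := ⟨q, hqL⟩
  obtain ⟨b1, b2⟩ := image_three hπ (m := b') hb
  obtain ⟨p1, p2⟩ := image_three hπ (m := p') hp
  obtain ⟨q1, q2⟩ := image_three hπ (m := q') hq
  obtain ⟨e1, e2, e3⟩ := five_word _ (mem_threes _ b1 b2) _ (mem_threes _ p1 p2)
    ((pos_iff hπ).1 hbp) _ (mem_threes _ q1 q2) ((pos_iff hπ).1 hbq) ((pos_iff hπ).1 hpq)
  set W : L := b' * (p' * p') * (q' * (b' * b')) with hW
  set W' : L := b' * b' * p' * (q' * q' * b') with hW'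
  have eW : π W = π b' * (π p' * π p') * (π q' * (π b' * π b')) := by simp only [hW, map_mul]
  have eW' : π W' = π b' * π b' * π p' * (π q' * π q' * π b') := by simp only [hW', map_mul]
  have hWW : π W = π W' := by rw [eW, eW', e1]
  have h4 : W ^ 4 = W' ^ 4 := by
    have h2 : (W⁻¹ * W') * (W⁻¹ * W') = 1 :=
      (hπ _).1 (by rw [map_mul, map_inv, hWW, inv_mul_cancel])
    rcases eq_or_ne (W⁻¹ * W') 1 with e | e
    · rw [inv_mul_eq_one.mp e]
    · set t := W⁻¹ * W' with ht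
      have hcG : ((W : L) : G) * t = t * W :=
        involution_central h (fun e' => e (Subtype.ext e')) (congrArg Subtype.val h2) _
      have hWt : W' = W * t := by rw [ht, mul_inv_cancel_left]
      rw [hWt, Commute.mul_pow (show Commute W t from Subtype.ext hcG),
        show t ^ 4 = (t * t) * (t * t) by simp [pow_succ, mul_assoc], h2, one_mul, mul_one]
  have h3 : π W * π W * π W = 1 := by rw [eW]; exact e3
  have h1 : π W ≠ 1 := by rw [eW]; exact e2
  have eπ : π (W ^ 4) = π W := by rw [map_pow, pow_succ, pow_three', h3, one_mul]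
  have h6 : W ^ 3 * W ^ 3 = 1 := (hπ _).1 (by rw [map_pow, pow_three', h3])
  refine ⟨((W ^ 4 : L) : G), (W ^ 4).2, ⟨?_, fun e => h1 ?_⟩, by simp [hW, b', p', q'], ?_⟩
  · have : W ^ 4 * W ^ 4 * W ^ 4 = 1 := by
      rw [← pow_add, ← pow_add, show 4 + 4 + 4 = (3 + 3) * 2 by rfl, pow_mul, pow_add, h6, one_pow]
    exact congrArg Subtype.val this
  · rw [← eπ, show W ^ 4 = 1 from Subtype.ext e, map_one]
  · rw [h4]; simp [hW', b', p', q']

end Fpf

end Cfsg.Agent.Lib.Zass25
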