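import Mathlib

/-!
Elements of order three in a fixed-point-free linear group: pairs, and triples with two positive
edges, generate subgroups of `SL₂`.
-/

set_option autoImplicit false

namespace Cfsg.Agent.Lib.Zass25

variable {G : Type*} [Group G] {F : Type*} [Field F] {V : Type*} [AddCommGroup V] [Module F V]

/-- A representation without nontrivial fixed points. -/
def IsFpfRep (ρ : G →* Module.End F V) : Prop := ∀ g : G, g ≠ 1 → ∀ v : V, ρ g v = v → v = 0

/-- `x * y` squares to an involution. -/
def IsPos (x y : G) : Prop :=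
  x * y * (x * y) ≠ 1 ∧ x * y * (x * y) * (x * y * (x * y)) = 1

theorem IsPos.symm {x y : G} (h : IsPos x y) : IsPos y x := by
  have e : y * x * (y * x) = x⁻¹ * (x * y * (x * y)) * x := by group
  constructor
  · intro h1
    apply h.1
    rw [e] at h1
    calc x * y * (x * y) = x * (x⁻¹ * (x * y * (x * y)) * x) * x⁻¹ := by group
      _ = 1 := by rw [h1]; group
  · rw [e]
    calc x⁻¹ * (x * y * (x * y)) * x * (x⁻¹ * (x * y * (x * y)) * x)
        = x⁻¹ * (x * y * (x * y) * (x * y * (x * y))) * x := by group
      _ = 1 := by rw [h.2]; group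

section Basic

variable {ρ : G →* Module.End F V} (hρ : IsFpfRep ρ)
include hρ

theorem IsFpfRep.injective [Nontrivial V] : Function.Injective ρ := by
  rw [injective_iff_map_eq_one]
  intro g hg
  by_contra h
  obtain ⟨v, hv⟩ := exists_ne (0 : V)
  exact hv (hρ g h v (by rw [hg]; rfl))

theorem IsFpfRep.order_three {x : G} (hx : x ≠ 1) (hx3 : x * x * x = 1) :
    ρ x * ρ x = -ρ x - 1 := by
  refine LinearMap.ext fun v => ?_
  have hXXX : ρ x (ρ x (ρ x v)) = v := by
    rw [← Module.End.mul_apply, ← Module.End.mul_apply, ← map_mul, ← map_mul, hx3, map_one]; rfl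
  have h : ρ x (ρ x v) + ρ x v + v = 0 := hρ x hx _ (by
    rw [map_add, map_add, hXXX]; abel)
  show ρ x (ρ x v) = -ρ x v - v
  linear_combination (norm := abel) h

theorem IsFpfRep.involution {t : G} (ht : t ≠ 1) (ht2 : t * t = 1) : ρ t = -1 := by
  refine LinearMap.ext fun v => ?_
  have hTT : ρ t (ρ t v) = v := by rw [← Module.End.mul_apply, ← map_mul, ht2, map_one]; rfl
  have h : ρ t v + v = 0 := hρ t ht _ (by rw [map_add, hTT]; abel)
  show ρ t v = -v
  exact eq_neg_of_add_eq_zero_left h

end Basic

section Ring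

variable {R : Type*} [Ring R]

/-- The anticommutator invariant. -/
def sInv (X Y : R) : R := X * Y + Y * X + X + Y

theorem commute_sInv {X : R} (Y : R) (hX : X * X = -X - 1) : Commute X (sInv X Y) := by
  have e : X * sInv X Y - sInv X Y * X = X * X * Y - Y * (X * X) + X * Y - Y * X := by
    unfold sInv; noncomm_ring
  rw [hX] at e
  have e' : X * sInv X Y - sInv X Y * X = 0 := by rw [e]; noncomm_ring
  exact sub_eq_zero.mp e'

theorem sInv_comm (X Y : R) : sInv X Y = sInv Y X := by
  unfold sInv; abel

theorem sInv_of_pos {X Y : R} (hX : X * X = -X - 1) (hY : Y * Y = -Y - 1)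
    (h : X * Y * (X * Y) = -1) : sInv X Y = -1 := by
  have hX3 : X * X * X = 1 := by
    rw [hX, sub_mul, neg_mul, one_mul, hX]; abel
  have hY3 : Y * Y * Y = 1 := by
    rw [hY, sub_mul, neg_mul, one_mul, hY]; abel
  have h1 : Y * X * Y = X + 1 := by
    calc Y * X * Y = X * X * (X * Y * (X * Y)) := by
          rw [show X * X * (X * Y * (X * Y)) = X * X * X * (Y * X * Y) by noncomm_ring, hX3,
            one_mul]
      _ = X + 1 := by rw [h, hX]; noncomm_ring
  have h2 : Y * X = (X + 1) * (Y * Y) := by
    rw [← h1, show Y * X * Y * (Y * Y) = Y * X * (Y * Y * Y) by noncomm_ring, hY3, mul_one]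
  unfold sInv
  rw [h2, hY]; noncomm_ring

theorem commute_sInv_middle {X Y W : R} (hXY : sInv Y X = -1) (hYW : sInv Y W = -1) :
    Commute Y (sInv X W) := by
  have e : Y * sInv X W - sInv X W * Y =
      (sInv Y X * W - W * sInv Y X) + (sInv Y W * X - X * sInv Y W) := by
    unfold sInv; noncomm_ring
  rw [hXY, hYW] at e
  have e' : Y * sInv X W - sInv X W * Y = 0 := by rw [e]; noncomm_ring
  exact sub_eq_zero.mp e'

end Ring

section Linear

variable [IsAlgClosed F] [FiniteDimensional F V] [Nontrivial V]

theorem eq_smul_one_of_commute (T : Set (Module.End F V))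
    (hirr : ∀ W : Submodule F V, (∀ f ∈ T, ∀ v ∈ W, f v ∈ W) → W = ⊥ ∨ W = ⊤)
    (S : Module.End F V) (hS : ∀ f ∈ T, Commute f S) : ∃ s : F, S = s • 1 := by
  obtain ⟨s, hs⟩ := Module.End.exists_eigenvalue S
  refine ⟨s, LinearMap.ext fun v => ?_⟩
  have h := (hirr (Module.End.eigenspace S s) fun f hf v hv => by
    rw [Module.End.mem_eigenspace_iff] at hv ⊢
    rw [← Module.End.mul_apply, ← (hS f hf).eq, Module.End.mul_apply, hv, map_smul]).resolve_left hs
  exact Module.End.mem_eigenspace_iff.mp (h ▸ Submodule.mem_top (x := v))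

theorem finrank_le_two_of_pair (X Y : Module.End F V) (hX : X * X = -X - 1)
    (hY : Y * Y = -Y - 1)
    (hirr : ∀ W : Submodule F V, (∀ f ∈ ({X, Y} : Set (Module.End F V)), ∀ v ∈ W, f v ∈ W) →
      W = ⊥ ∨ W = ⊤) : Module.finrank F V ≤ 2 := by
  classical
  obtain ⟨s, hs⟩ := eq_smul_one_of_commute _ hirr (sInv X Y) (by
    rintro f (rfl | rfl)
    · exact commute_sInv Y hX
    · rw [sInv_comm]; exact commute_sInv X hY)
  obtain ⟨e, he⟩ := Module.End.exists_eigenvalue X
  obtain ⟨v, hv, hv0⟩ := he.exists_hasEigenvector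
  rw [Module.End.mem_eigenspace_iff] at hv
  let T : Finset V := {v, Y v}
  let W : Submodule F V := Submodule.span F (T : Set V)
  have hv' : v ∈ W := Submodule.subset_span (by simp [T])
  have hYv : Y v ∈ W := Submodule.subset_span (by simp [T])
  have hYY : Y (Y v) = -Y v - v := by
    have := LinearMap.congr_fun hY v
    simpa using this
  have hXY : X (Y v) = (s - e) • v - (1 + e) • Y v := by
    have h := LinearMap.congr_fun hs v
    simp only [sInv, LinearMap.add_apply, Module.End.mul_apply, LinearMap.smul_apply,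
      Module.End.one_apply, hv, map_smul] at h
    rw [sub_smul, add_smul, one_smul, ← h]
    abel
  have hW : W = ⊤ := by
    refine (hirr W fun f hf u hu => ?_).resolve_left fun h => hv0 ((Submodule.mem_bot F).mp (h ▸ hv'))
    suffices W ≤ W.comap f from this hu
    refine Submodule.span_le.mpr fun a ha => ?_
    simp only [T, Finset.coe_insert, Finset.coe_singleton, Set.mem_insert_iff,
      Set.mem_singleton_iff] at ha
    show f a ∈ W
    rcases hf with rfl | rfl <;> rcases ha with rfl | rfl
    · rw [hv]; exact W.smul_mem _ hv'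
    · rw [hXY]; exact W.sub_mem (W.smul_mem _ hv') (W.smul_mem _ hYv)
    · exact hYv
    · rw [hYY]; exact W.sub_mem (W.neg_mem hYv) hv'
  calc Module.finrank F V = Module.finrank F W := by rw [hW]; exact (finrank_top F V).symm
    _ ≤ T.card := finrank_span_finset_le_card T
    _ ≤ 2 := Finset.card_le_two

theorem finrank_eq_two_of_triple (h2 : (2 : F) ≠ 0) (h3 : (3 : F) ≠ 0)
    (U P W : Module.End F V) (s : F) (hU : U * U = -3) (hP : P * P = -3) (hW : W * W = -3)
    (hUP : U * P + P * U = -2) (hPW : P * W + W * P = -2) (hUW : U * W + W * U = s • 1)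
    (hirr : ∀ M : Submodule F V, (∀ f ∈ ({U, P, W} : Set (Module.End F V)), ∀ v ∈ M, f v ∈ M) →
      M = ⊥ ∨ M = ⊤) : Module.finrank F V = 2 ∧ LinearMap.trace F V U = 0 ∧
      LinearMap.trace F V P = 0 ∧ LinearMap.trace F V W = 0 := by
  classical
  set c := U * P * W - W * P * U with hc
  have cU : Commute U c := by
    have e : U * c - c * U =
        U * U * (P * W) - U * (W * P + P * W) * U + W * P * (U * U) := by
      rw [hc]; noncomm_ring
    rw [hU, show W * P + P * W = -2 by rw [add_comm, hPW]] at e
    have e' : U * c - c * U = -(3 : Module.End F V) * (P * W + W * P) + 2 * (U * U) := by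
      rw [e]; noncomm_ring
    rw [hPW, hU] at e'
    exact sub_eq_zero.mp (by rw [e']; noncomm_ring)
  have cW : Commute W c := by
    have e : W * c - c * W =
        W * (U * P + P * U) * W - W * W * (P * U) - U * P * (W * W) := by
      rw [hc]; noncomm_ring
    rw [hUP, hW] at e
    have e' : W * c - c * W = -(2 : Module.End F V) * (W * W) + 3 * (U * P + P * U) := by
      rw [e]; noncomm_ring
    rw [hUP, hW] at e'
    exact sub_eq_zero.mp (by rw [e']; noncomm_ring)
  have cP : Commute P c := by
    have hPUP : P * U * P = -2 * P + 3 * U := by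
      have e : P * U * P = P * (U * P + P * U) - P * P * U := by noncomm_ring
      rw [e, hUP, hP]; noncomm_ring
    have hPWP : P * W * P = -2 * P + 3 * W := by
      have e : P * W * P = (P * W + W * P) * P - W * (P * P) := by noncomm_ring
      rw [e, hPW, hP]; noncomm_ring
    have e : P * c - c * P =
        P * U * P * W - P * W * P * U - U * (P * W * P) + W * (P * U * P) := by
      rw [hc]; noncomm_ring
    rw [hPUP, hPWP] at e
    have e' : P * c - c * P =
        -(2 : Module.End F V) * (P * W + W * P) + 2 * (U * P + P * U) := by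
      rw [e]; noncomm_ring
    rw [hUP, hPW] at e'
    exact sub_eq_zero.mp (by rw [e']; noncomm_ring)
  obtain ⟨γ, hγ⟩ := eq_smul_one_of_commute _ hirr c (by
    rintro f (rfl | rfl | rfl)
    exacts [cU, cP, cW])
  obtain ⟨e, he⟩ := Module.End.exists_eigenvalue U
  obtain ⟨v, hv, hv0⟩ := he.exists_hasEigenvector
  rw [Module.End.mem_eigenspace_iff] at hv
  have napply : ∀ (n : ℕ) [n.AtLeastTwo] (u : V),
      ((OfNat.ofNat n : Module.End F V)) u = (OfNat.ofNat n : F) • u := fun n _ u => by
    rw [← map_ofNat (algebraMap F (Module.End F V))]; rfl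
  have app : ∀ (f g : Module.End F V) (n : ℕ) [n.AtLeastTwo],
      f * g = -(OfNat.ofNat n : Module.End F V) → ∀ u, f (g u) = -((OfNat.ofNat n : F) • u) :=
    fun f g n _ h u => by
      rw [← Module.End.mul_apply, h, LinearMap.neg_apply, napply]
  have he2 : e * e = -3 := by
    have h := app U U 3 hU v
    rw [hv, map_smul, hv, smul_smul, ← neg_smul] at h
    exact smul_left_injective F hv0 h
  have he0 : e ≠ 0 := fun h => h3 (by rw [h, mul_zero, zero_eq_neg] at he2; exact he2)
  have hUPv : ∀ u, U (P u) = -((2 : F) • u) - P (U u) := fun u => by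
    have h := LinearMap.congr_fun hUP u
    rw [LinearMap.add_apply, LinearMap.neg_apply, Module.End.mul_apply, Module.End.mul_apply,
      napply] at h
    exact eq_sub_of_add_eq h
  have hPWv : ∀ u, W (P u) = -((2 : F) • u) - P (W u) := fun u => by
    have h := LinearMap.congr_fun hPW u
    rw [LinearMap.add_apply, LinearMap.neg_apply, Module.End.mul_apply, Module.End.mul_apply,
      napply] at h
    exact eq_sub_of_add_eq' h
  have hUWv : ∀ u, U (W u) = s • u - W (U u) := fun u => by
    have h := LinearMap.congr_fun hUW u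
    rw [LinearMap.add_apply, Module.End.mul_apply, Module.End.mul_apply] at h
    exact eq_sub_of_add_eq h
  have hPW2 : (2 * e) • P (W v) = γ • v + (2 : F) • W v + s • P v - (2 * e) • v := by
    have h := LinearMap.congr_fun hγ v
    simp only [hc, LinearMap.sub_apply, Module.End.mul_apply, LinearMap.smul_apply,
      Module.End.one_apply, hUPv (W v), hUWv v, hv, map_smul, map_sub, hPWv v, smul_sub,
      smul_neg, smul_smul] at h
    rw [← h]
    module
  let T : Finset V := {v, P v, W v}
  let M : Submodule F V := Submodule.span F (T : Set V)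
  have hv' : v ∈ M := Submodule.subset_span (by simp [T])
  have hPv : P v ∈ M := Submodule.subset_span (by simp [T])
  have hWv : W v ∈ M := Submodule.subset_span (by simp [T])
  have hPWvM : P (W v) ∈ M := by
    have h : P (W v) = (2 * e)⁻¹ • (γ • v + (2 : F) • W v + s • P v - (2 * e) • v) := by
      rw [← hPW2, inv_smul_smul₀ (mul_ne_zero h2 he0)]
    rw [h]
    exact M.smul_mem _ (M.sub_mem (M.add_mem (M.add_mem (M.smul_mem _ hv') (M.smul_mem _ hWv))
      (M.smul_mem _ hPv)) (M.smul_mem _ hv'))
  have hMtop : M = ⊤ := by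
    refine (hirr M fun f hf u hu => ?_).resolve_left fun h => hv0 ((Submodule.mem_bot F).mp (h ▸ hv'))
    suffices M ≤ M.comap f from this hu
    refine Submodule.span_le.mpr fun a ha => ?_
    simp only [T, Finset.coe_insert, Finset.coe_singleton, Set.mem_insert_iff,
      Set.mem_singleton_iff] at ha
    show f a ∈ M
    rcases hf with rfl | rfl | rfl <;> rcases ha with rfl | rfl | rfl
    · rw [hv]; exact M.smul_mem _ hv'
    · rw [hUPv, hv, map_smul]
      exact M.sub_mem (M.neg_mem (M.smul_mem _ hv')) (M.smul_mem _ hPv)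
    · rw [hUWv, hv, map_smul]; exact M.sub_mem (M.smul_mem _ hv') (M.smul_mem _ hWv)
    · exact hPv
    · rw [app _ _ 3 hP]; exact M.neg_mem (M.smul_mem _ hv')
    · exact hPWvM
    · exact hWv
    · rw [hPWv]; exact M.sub_mem (M.neg_mem (M.smul_mem _ hv')) hPWvM
    · rw [app _ _ 3 hW]; exact M.neg_mem (M.smul_mem _ hv')
  have hle : Module.finrank F V ≤ 3 :=
    calc Module.finrank F V = Module.finrank F M := by rw [hMtop]; exact (finrank_top F V).symm
      _ ≤ T.card := finrank_span_finset_le_card T
      _ ≤ 3 := Finset.card_le_three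
  -- anticommuting partners
  have key : ∀ A B : Module.End F V, A * A = -3 → B * B = -3 → A * B + B * A = -2 →
      Even (Module.finrank F V) ∧ LinearMap.trace F V A = 0 := by
    intro A B hA hB hAB
    set Q := B + B + B - A with hQdef
    have hanti : A * Q = -(Q * A) := by
      have e : A * Q + Q * A = 3 * (A * B + B * A) - 2 * (A * A) := by rw [hQdef]; noncomm_ring
      rw [hAB, hA] at e
      exact eq_neg_of_add_eq_zero_left (by rw [e]; norm_num)
    have hQ : Q * Q = -24 := by
      have e : Q * Q = 9 * (B * B) - 3 * (A * B + B * A) + A * A := by rw [hQdef]; noncomm_ring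
      rw [e, hAB, hA, hB]; norm_num
    have h24 : (24 : F) ≠ 0 := by
      have : (24 : F) = 2 * 2 * 2 * 3 := by norm_num
      rw [this]
      exact mul_ne_zero (mul_ne_zero (mul_ne_zero h2 h2) h2) h3
    constructor
    · have hdet := congrArg LinearMap.det hanti
      rw [← neg_one_smul F (Q * A), LinearMap.det_smul, map_mul, map_mul, mul_comm (LinearMap.det Q)]
        at hdet
      have hne : ∀ (Z : Module.End F V) (n : ℕ) [n.AtLeastTwo], (OfNat.ofNat n : F) ≠ 0 →
          Z * Z = -(OfNat.ofNat n : Module.End F V) → LinearMap.det Z ≠ 0 := by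
        intro Z n _ hn hZ h0
        have h := congrArg LinearMap.det hZ
        rw [map_mul, h0, mul_zero, ← map_ofNat (algebraMap F (Module.End F V)),
          Algebra.algebraMap_eq_smul_one, ← neg_smul, LinearMap.det_smul, map_one, mul_one] at h
        exact pow_ne_zero _ (neg_ne_zero.mpr hn) h.symm
      have hAQ : LinearMap.det A * LinearMap.det Q ≠ 0 :=
        mul_ne_zero (hne A 3 h3 hA) (hne Q 24 h24 hQ)
      rcases Nat.even_or_odd (Module.finrank F V) with h | h
      · exact h
      · exfalso
        rw [h.neg_one_pow] at hdet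
        have : (2 : F) * (LinearMap.det A * LinearMap.det Q) = 0 := by linear_combination hdet
        exact mul_ne_zero h2 hAQ this
    · have e1 : Q * A * Q = (24 : F) • A := by
        rw [show Q * A = -(A * Q) by rw [hanti, neg_neg], neg_mul, mul_assoc, hQ, mul_neg, neg_neg,
          ← map_ofNat (algebraMap F (Module.End F V)), ← Algebra.commutes, ← Algebra.smul_def]
      have e2 : LinearMap.trace F V (Q * A * Q) = -((24 : F) * LinearMap.trace F V A) := by
        rw [LinearMap.trace_mul_comm, ← mul_assoc, hQ, neg_mul,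
          ← map_ofNat (algebraMap F (Module.End F V)), ← Algebra.smul_def, map_neg, map_smul,
          smul_eq_mul]
      rw [e1, map_smul, smul_eq_mul] at e2
      have : (2 : F) * 24 * LinearMap.trace F V A = 0 := by linear_combination e2
      exact (mul_eq_zero.mp this).resolve_left (mul_ne_zero h2 h24)
  obtain ⟨heven, tU⟩ := key U P hU hP hUP
  obtain ⟨-, tP⟩ := key P U hP hU (by rw [add_comm, hUP])
  obtain ⟨-, tW⟩ := key W P hW hP (by rw [add_comm, hPW])
  refine ⟨?_, tU, tP, tW⟩
  obtain ⟨k, hk⟩ := heven
  have := Module.finrank_pos (R := F) (M := V)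
  omega

end Linear

end Cfsg.Agent.Lib.Zass25
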