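import Cfsg.Agent.Lib.Zass25.Structure
import Cfsg.Agent.Lib.Perm.LinearFPF

/-!
Regular linear groups are fixed-point-free; small consequences.
-/

set_option autoImplicit false

namespace Cfsg.Agent.Lib.Zass25

theorem hasFpfRep_of_regular {p : ℕ} [Fact p.Prime] {V : Type*} [AddCommGroup V]
    [Module (ZMod p) V] [Finite V] [Nontrivial V] (H : Subgroup (V ≃ₗ[ZMod p] V))
    (hreg : ∀ v w : V, v ≠ 0 → w ≠ 0 → ∃! h : H, (h : V ≃ₗ[ZMod p] V) v = w) :
    HasFpfRep H := by
  have := LinearFPF.finite_group (p := p) (V := V)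
  let ρ : H →* AddMonoid.End V :=
    { toFun := fun h => (h : V ≃ₗ[ZMod p] V).toLinearMap.toAddMonoidHom
      map_one' := rfl
      map_mul' := fun _ _ => rfl }
  have hfree : FrobRep.IsFreeAction ρ := fun g hg v hv => by
    by_contra hv0
    exact hg ((hreg v v hv0 hv0).unique hv rfl)
  have hp : ∀ v : V, p • v = 0 := fun v => by
    rw [← Nat.cast_smul_eq_nsmul (ZMod p), ZMod.natCast_self, zero_smul]
  refine hasFpfRep_of_hasFreeModule (r := p) ?_ (FrobRep.hasFreeModule_of ρ hp hfree)
  intro hd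
  have hcard := LinearFPF.card_group hreg
  have h1 : 1 < Nat.card V := Finite.one_lt_card
  have hpV : p ∣ Nat.card V := by
    rw [Module.natCard_eq_pow_finrank (K := ZMod p), Nat.card_zmod]
    exact dvd_pow_self p (Module.finrank_pos (R := ZMod p) (M := V)).ne'
  rw [hcard] at hd
  have := Nat.dvd_sub hpV hd
  rw [show Nat.card V - (Nat.card V - 1) = 1 by omega] at this
  exact (Fact.out : p.Prime).one_lt.ne' (Nat.dvd_one.mp this)

variable {N : Type*} [Group N] [Finite N]

/-- A nonabelian fixed-point-free group of class two whose only nonabelian normal subgroup is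
itself is a quaternion group of order eight. -/
theorem quaternion_of_class_two (h : HasFpfRep N) (hna : ¬ IsMulCommutative N)
    (hcl : commutator N ≤ Subgroup.center N)
    (hmin : ∀ P : Subgroup N, P.Characteristic → ¬ IsMulCommutative P → P = ⊤) :
    Nonempty (N ≃* QuaternionGroup 2) := by
  classical
  have hnil : Group.IsNilpotent N := by
    have h1 : commutator N ≤ (QuotientGroup.mk' (Subgroup.center N)).ker := by
      rw [QuotientGroup.ker_mk']; exact hcl
    have : IsMulCommutative (N ⧸ Subgroup.center N) := ⟨⟨fun a b => by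
      obtain ⟨a, rfl⟩ := QuotientGroup.mk'_surjective _ a
      obtain ⟨b, rfl⟩ := QuotientGroup.mk'_surjective _ b
      exact commutatorElement_eq_one_iff_mul_comm.mp (by
        rw [← map_commutatorElement]
        exact h1 (Subgroup.commutator_mem_commutator (Subgroup.mem_top a) (Subgroup.mem_top b)))⟩⟩
    exact Group.of_quotient_center_nilpotent (by
      letI : CommGroup (N ⧸ Subgroup.center N) :=
        { (inferInstance : Group (N ⧸ Subgroup.center N)) with mul_comm := fun a b => mul_comm' a b }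
      infer_instance)
  obtain ⟨q, hq, Q, hQ⟩ : ∃ q, q.Prime ∧ ∃ Q : Sylow q N, ¬ IsMulCommutative (Q : Subgroup N) := by
    by_contra hne
    push Not at hne
    refine hna ?_
    obtain ⟨e⟩ := ((Group.isNilpotent_of_finite_tfae (G := N)).out 0 4).mp hnil
    exact ⟨⟨fun a b => e.symm.injective (funext fun q => funext fun Q => by
      have : Fact q.1.Prime := ⟨Nat.prime_of_mem_primeFactors q.2⟩
      rw [map_mul, map_mul, Pi.mul_apply, Pi.mul_apply, Pi.mul_apply, Pi.mul_apply]
      exact (hne q.1 this.out Q).is_comm.comm _ _)⟩⟩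
  have := Fact.mk hq
  have hQn : (Q : Subgroup N).Normal :=
    Sylow.normal_of_normalizerCondition Group.normalizerCondition_of_isNilpotent Q
  have hQtop : (Q : Subgroup N) = ⊤ := hmin _ (Q.characteristic_of_normal hQn) hQ
  obtain ⟨rfl, n, ⟨e⟩⟩ := (sylow_cyclic_or_quaternion h Q).resolve_left
    fun hc => hQ (by
      obtain ⟨g, hg⟩ := hc.exists_generator
      exact ⟨⟨fun a b => by
        obtain ⟨i, rfl⟩ := hg a
        obtain ⟨j, rfl⟩ := hg b
        exact zpow_mul_comm g i j⟩⟩)
  let f : N ≃* QuaternionGroup (2 ^ n) :=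
    (Subgroup.topEquiv.symm.trans (MulEquiv.subgroupCongr hQtop.symm)).trans e
  set u : N := f.symm (QuaternionGroup.a 1) with hu
  set v : N := f.symm (QuaternionGroup.xa 0) with hv
  have hc := Subgroup.mem_center_iff.mp
    (hcl (Subgroup.commutator_mem_commutator (Subgroup.mem_top u) (Subgroup.mem_top v))) v
  have hc' := congrArg f hc
  simp only [map_mul, map_commutatorElement, hu, hv, MulEquiv.apply_symm_apply] at hc'
  have i1 : ∀ i : ZMod (2 * 2 ^ n), (QuaternionGroup.a i)⁻¹ = QuaternionGroup.a (-i) := fun i => rfl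
  have i2 : ∀ i : ZMod (2 * 2 ^ n),
      (QuaternionGroup.xa i)⁻¹ = QuaternionGroup.xa (((2 ^ n : ℕ) : ZMod (2 * 2 ^ n)) + i) := fun i => rfl
  simp only [commutatorElement_def, QuaternionGroup.a_mul_xa, QuaternionGroup.xa_mul_a,
    QuaternionGroup.xa_mul_xa, QuaternionGroup.a_mul_a, i1, i2,
    QuaternionGroup.xa.injEq] at hc'
  have h4 : ((4 : ℕ) : ZMod (2 * 2 ^ n)) = 0 := by
    have hm : ((2 ^ n : ℕ) : ZMod (2 * 2 ^ n)) * 2 = 0 := by
      have := ZMod.natCast_self (2 * 2 ^ n)
      rw [Nat.cast_mul] at this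
      rw [mul_comm ((2 ^ n : ℕ) : ZMod (2 * 2 ^ n))]; exact this
    push_cast at hc' hm ⊢
    ring_nf at hc' hm ⊢
    linear_combination hc' - 2 * hm
  have hd := (ZMod.natCast_eq_zero_iff _ _).mp h4
  have hn : n ≤ 1 := by
    by_contra hn
    have := Nat.le_of_dvd (by norm_num) hd
    have : 2 ^ 2 ≤ 2 ^ n := Nat.pow_le_pow_right (by norm_num) (by omega)
    omega
  rcases Nat.le_one_iff_eq_zero_or_eq_one.mp hn with rfl | rfl
  · exfalso
    have : IsCyclic (QuaternionGroup (2 ^ 0)) := QuaternionGroup.quaternionGroup_one_isCyclic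
    obtain ⟨g, hg⟩ := (f.isCyclic.mpr this).exists_generator
    exact hna ⟨⟨fun a b => by
      obtain ⟨i, rfl⟩ := hg a
      obtain ⟨j, rfl⟩ := hg b
      exact zpow_mul_comm g i j⟩⟩
  · exact ⟨f⟩

end Cfsg.Agent.Lib.Zass25
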