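import Mathlib

/-!
The small groups occurring as quotients: `V₄` is the only one with an abelian image, the others
have no nontrivial normal Z-subgroup.
-/

set_option autoImplicit false

namespace Cfsg.Agent.Lib.Zass25

open Equiv

theorem false_of_commuting_involutions {X : Type*} [Group X] [Finite X] [IsZGroup X] {a b : X}
    (ha : a * a = 1) (ha1 : a ≠ 1) (hb : b * b = 1) (hb1 : b ≠ 1) (hc : Commute a b)
    (hne : a ≠ b) : False := by
  set H := Subgroup.closure ({a, b} : Set X) with hH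
  have hcomm : IsMulCommutative H := Subgroup.isMulCommutative_closure (by
    rintro x (rfl | rfl) y (rfl | rfl)
    exacts [rfl, hc.eq, hc.eq.symm, rfl])
  have hsq : ∀ x ∈ H, x * x = 1 := by
    intro x hx
    induction hx using Subgroup.closure_induction with
    | mem y hy => rcases hy with rfl | rfl <;> assumption
    | one => simp
    | mul y z hy hz h1 h2 =>
      have hyz : Commute y z := congrArg Subtype.val (hcomm.is_comm.comm ⟨y, hy⟩ ⟨z, hz⟩)
      rw [hyz.symm.mul_mul_mul_comm, h1, h2, one_mul]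
    | inv y _ h1 => rw [← mul_inv_rev, h1, inv_one]
  have : IsPGroup 2 H := fun x => ⟨1, Subtype.ext (by
    rw [pow_one, Subgroup.coe_pow, pow_two]; exact hsq x x.2)⟩
  obtain ⟨P, hP⟩ := this.exists_le_sylow
  have : IsCyclic (P : Subgroup X) := IsZGroup.isZGroup 2 Nat.prime_two P
  have := Subgroup.isCyclic_of_le hP
  obtain ⟨⟨g, hgH⟩, hg⟩ := IsCyclic.exists_generator (α := H)
  have hmem : ∀ x ∈ H, x = 1 ∨ x = g := by
    intro x hx
    obtain ⟨i, hi⟩ := hg ⟨x, hx⟩
    have hi' : g ^ i = x := congrArg Subtype.val hi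
    have hg2 : g * g = 1 := hsq g hgH
    rcases Int.even_or_odd' i with ⟨j, rfl | rfl⟩
    · left; rw [← hi', zpow_mul, zpow_two, hg2, one_zpow]
    · right; rw [← hi', zpow_add, zpow_mul, zpow_two, hg2, one_zpow, one_mul, zpow_one]
  rcases hmem a (Subgroup.subset_closure (by simp)) with e | e
  · exact ha1 e
  rcases hmem b (Subgroup.subset_closure (by simp)) with e' | e'
  · exact hb1 e'
  exact hne (e.trans e'.symm)

/-- No nontrivial normal subgroup is a Z-group. -/
def NoNormalZ (X : Type*) [Group X] : Prop :=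
  ∀ K : Subgroup X, K.Normal → IsZGroup K → K = ⊥

theorem false_of_conj_involution {X : Type*} [Group X] [Finite X] {K : Subgroup X} (hK : K.Normal)
    [IsZGroup K] {c : X} (hc : c ∈ K) (hc2 : c * c = 1) (hc1 : c ≠ 1) (l : X)
    (hne : l * c * l⁻¹ ≠ c) (hcm : c * (l * c * l⁻¹) = l * c * l⁻¹ * c) : False := by
  refine false_of_commuting_involutions (a := (⟨c, hc⟩ : K)) (b := ⟨_, hK.conj_mem c hc l⟩)
    (Subtype.ext hc2) (fun e => hc1 (congrArg Subtype.val e)) (Subtype.ext ?_) (fun e => hc1 ?_)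
    (Subtype.ext hcm) (fun e => hne (congrArg Subtype.val e).symm)
  · show l * c * l⁻¹ * (l * c * l⁻¹) = 1
    rw [show l * c * l⁻¹ * (l * c * l⁻¹) = l * (c * c) * l⁻¹ by group, hc2]
    group
  · exact conj_eq_one_iff.mp (congrArg Subtype.val e)

theorem s4_centralizer : ∀ k : Perm (Fin 4),
    (∀ v : Perm (Fin 4), v * v = 1 ∧ Perm.sign v = 1 → v * k = k * v) →
    k * k = 1 ∧ Perm.sign k = 1 := by
  decide +kernel

theorem s4_commute : ∀ v : Perm (Fin 4), v * v = 1 ∧ Perm.sign v = 1 →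
    ∀ w : Perm (Fin 4), w * w = 1 ∧ Perm.sign w = 1 → v * w = w * v := by
  decide +kernel

theorem s4_move : ∀ v : Perm (Fin 4), v * v = 1 ∧ Perm.sign v = 1 → v = 1 ∨
    ∃ l : Perm (Fin 4), Perm.sign l = 1 ∧ l * v * l⁻¹ ≠ v := by
  decide +kernel

theorem noNormalZ_four {X : Type*} [Group X] [Finite X] (i : X →* Perm (Fin 4))
    (hi : Function.Injective i) (himg : ∀ s, Perm.sign s = 1 → s ∈ i.range) : NoNormalZ X := by
  intro K hK hZ
  by_contra hne
  obtain ⟨k, hk, hk1⟩ : ∃ k ∈ K, k ≠ 1 := by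
    by_contra hall
    push Not at hall
    exact hne (eq_bot_iff.mpr fun x hx => Subgroup.mem_bot.mpr (hall x hx))
  have finish : ∀ c ∈ K, c ≠ 1 → i c * i c = 1 ∧ Perm.sign (i c) = 1 → False := by
    intro c hc hc1 hdt
    rcases s4_move _ hdt with e | ⟨l, hl, hne'⟩
    · exact hc1 ((map_eq_one_iff i hi).mp e)
    obtain ⟨l, rfl⟩ := himg l hl
    refine false_of_conj_involution hK hc (hi (by rw [map_mul, map_one]; exact hdt.1)) hc1 l
      (fun e => hne' (by rw [← map_inv, ← map_mul, ← map_mul, e])) (hi ?_)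
    simp only [map_mul, map_inv]
    refine s4_commute _ hdt _ ⟨?_, by simp [hl, hdt.2]⟩
    rw [show i l * i c * (i l)⁻¹ * (i l * i c * (i l)⁻¹) = i l * (i c * i c) * (i l)⁻¹ by group,
      hdt.1]
    group
  by_cases hall : ∀ v : Perm (Fin 4), v * v = 1 ∧ Perm.sign v = 1 → v * i k = i k * v
  · exact finish k hk hk1 (s4_centralizer _ hall)
  push Not at hall
  obtain ⟨v, hv, hne'⟩ := hall
  obtain ⟨v, rfl⟩ := himg v hv.2
  refine finish (v * k * v⁻¹ * k⁻¹) (K.mul_mem (hK.conj_mem k hk v) (K.inv_mem hk)) (fun e => hne' ?_) ?_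
  · rw [← map_mul, ← map_mul]
    exact congrArg i (mul_inv_eq_iff_eq_mul.mp (mul_inv_eq_one.mp e))
  · simp only [map_mul, map_inv]
    have hw : i k * (i v)⁻¹ * (i k)⁻¹ * (i k * (i v)⁻¹ * (i k)⁻¹) = 1 ∧
        Perm.sign (i k * (i v)⁻¹ * (i k)⁻¹) = 1 := by
      refine ⟨?_, by simp [hv.2]⟩
      rw [show i k * (i v)⁻¹ * (i k)⁻¹ * (i k * (i v)⁻¹ * (i k)⁻¹) =
        i k * (i v * i v)⁻¹ * (i k)⁻¹ by group, hv.1]
      group
    have hc := s4_commute _ ⟨hv.1, hv.2⟩ _ hw
    rw [show i v * i k * (i v)⁻¹ * (i k)⁻¹ = i v * (i k * (i v)⁻¹ * (i k)⁻¹) by group]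
    refine ⟨?_, by simp [hv.2]⟩
    rw [(Commute.mul_mul_mul_comm (a := i v) (b := i k * (i v)⁻¹ * (i k)⁻¹) (c := i v)
      (show Commute _ (i v) from hc.symm) _), hv.1, hw.1, one_mul]

theorem noNormalZ_alternating_four : NoNormalZ (alternatingGroup (Fin 4)) :=
  noNormalZ_four (alternatingGroup (Fin 4)).subtype Subtype.val_injective
    fun s hs => ⟨⟨s, Perm.mem_alternatingGroup.mpr hs⟩, rfl⟩

theorem noNormalZ_perm_four : NoNormalZ (Perm (Fin 4)) :=
  noNormalZ_four (MonoidHom.id _) Function.injective_id fun s _ => ⟨s, rfl⟩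

theorem five_centralizer : ∀ k : Perm (Fin 5),
    (∀ g : Perm (Fin 5), Perm.sign g = 1 → g * k = k * g) → k = 1 := by
  decide +kernel

theorem noNormalZ_five {X : Type*} [Group X] [Finite X] (i : X →* Perm (Fin 5))
    (hi : Function.Injective i) (himg : ∀ s, Perm.sign s = 1 → s ∈ i.range) : NoNormalZ X := by
  intro K hK hZ
  -- the even part of `K`
  set A := (alternatingGroup (Fin 5)).comap i with hA
  let j : A →* alternatingGroup (Fin 5) := (i.comp A.subtype).codRestrict _ fun x => x.2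
  have hj : Function.Surjective j := fun s => by
    obtain ⟨x, hx⟩ := himg (s : Perm (Fin 5)) (Perm.mem_alternatingGroup.mp s.2)
    exact ⟨⟨x, by rw [hA, Subgroup.mem_comap, hx]; exact s.2⟩, Subtype.ext hx⟩
  have : IsSimpleGroup (alternatingGroup (Fin 5)) := alternatingGroup.isSimpleGroup_five
  rcases (Subgroup.Normal.map (hK.subgroupOf A) j hj).eq_bot_or_eq_top with hb | ht
  · -- `K` centralises the alternating group
    refine (Subgroup.eq_bot_iff_forall K).mpr fun k hk => (map_eq_one_iff i hi).mp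
      (five_centralizer (i k) fun g hg => ?_)
    obtain ⟨v, rfl⟩ := himg g hg
    have hc : v * k * v⁻¹ * k⁻¹ ∈ A := by
      rw [hA, Subgroup.mem_comap, Perm.mem_alternatingGroup]
      simp only [map_mul, map_inv]
      rw [mul_right_comm (Perm.sign (i v)), mul_inv_cancel, one_mul, mul_inv_cancel]
    have : j ⟨_, hc⟩ ∈ (K.subgroupOf A).map j :=
      ⟨⟨_, hc⟩, K.mul_mem (hK.conj_mem k hk v) (K.inv_mem hk), rfl⟩
    rw [hb, Subgroup.mem_bot] at this
    have e : i (v * k * v⁻¹ * k⁻¹) = 1 := congrArg Subtype.val this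
    rw [map_eq_one_iff i hi] at e
    rw [← map_mul, ← map_mul]
    exact congrArg i (mul_inv_eq_iff_eq_mul.mp (mul_inv_eq_one.mp e))
  · exfalso
    let c : Perm (Fin 5) := swap 0 1 * swap 2 3
    have hc : Perm.sign c = 1 ∧ c * c = 1 ∧ c ≠ 1 := by decide +kernel
    let l : Perm (Fin 5) := swap 0 1 * swap 1 2
    have hl : Perm.sign l = 1 ∧ l * c * l⁻¹ ≠ c ∧ c * (l * c * l⁻¹) = l * c * l⁻¹ * c := by
      decide +kernel
    obtain ⟨y, hy, hyc⟩ : (⟨c, Perm.mem_alternatingGroup.mpr hc.1⟩ : alternatingGroup (Fin 5)) ∈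
        (K.subgroupOf A).map j := ht ▸ Subgroup.mem_top _
    have hyc' : i y = c := congrArg Subtype.val hyc
    obtain ⟨l', hl'⟩ := himg l hl.1
    refine false_of_conj_involution hK (c := (y : X)) hy (hi ?_) (fun e => hc.2.2 ?_) l'
      (fun e => hl.2.1 ?_) (hi ?_)
    · rw [map_mul, map_one, hyc', hc.2.1]
    · rw [← hyc', e, map_one]
    · rw [← hyc', ← hl', ← map_inv, ← map_mul, ← map_mul, e]
    · simp only [map_mul, map_inv, hyc', hl', hl.2.2]

theorem noNormalZ_alternating_five : NoNormalZ (alternatingGroup (Fin 5)) :=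
  noNormalZ_five (alternatingGroup (Fin 5)).subtype Subtype.val_injective
    fun s hs => ⟨⟨s, Perm.mem_alternatingGroup.mpr hs⟩, rfl⟩

theorem noNormalZ_perm_five : NoNormalZ (Perm (Fin 5)) :=
  noNormalZ_five (MonoidHom.id _) Function.injective_id fun s _ => ⟨s, rfl⟩

theorem klein_sq : ∀ x : DihedralGroup 2, x * x = 1 := by decide

theorem klein_not_isZGroup : ¬ IsZGroup (DihedralGroup 2) := fun _ =>
  false_of_commuting_involutions (a := DihedralGroup.r (1 : ZMod 2)) (b := DihedralGroup.sr 0)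
    (by decide) (by decide) (by decide) (by decide) (show _ = _ by decide) (by decide)

end Cfsg.Agent.Lib.Zass25
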