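import Cfsg.Agent.Lib.Zass25.Decompose
import Cfsg.Agent.Lib.Zass25.Quotients
import Cfsg.Agent.Lib.Zass25.AutQEight
import Cfsg.Agent.Lib.AltAut.Main
import Cfsg.Agent.Lib.SolvableCore.Basic
import Cfsg.Agent.Lib.PSolvable.Core
import Cfsg.Agent.Lib.Fusion87.QuaternionSL2

/-!
The six types of quotients of a Frobenius complement by a normal Z-subgroup.
-/

set_option autoImplicit false

namespace Cfsg.Agent.Lib.Zass25

open scoped Pointwise

variable {G : Type*} [Group G] [Finite G]

/-- A quotient type of a fixed-point-free group. -/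
def IsCoreQuot (N : Subgroup G) : Prop :=
  N = ⊤ ∨
    (∃ f : G →* DihedralGroup 2, Function.Surjective f ∧ f.ker = N) ∨
    (∃ f : G →* alternatingGroup (Fin 4), Function.Surjective f ∧ f.ker = N) ∨
    (∃ f : G →* Equiv.Perm (Fin 4), Function.Surjective f ∧ f.ker = N) ∨
    (∃ f : G →* alternatingGroup (Fin 5), Function.Surjective f ∧ f.ker = N) ∨
    (∃ f : G →* Equiv.Perm (Fin 5), Function.Surjective f ∧ f.ker = N)

/-- A quotient without normal Z-subgroups, of order more than four. -/
def IsBigQuot (N : Subgroup G) : Prop :=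
  ∃ (X : Type) (_ : Group X) (_ : Finite X) (f : G →* X),
    Function.Surjective f ∧ f.ker = N ∧ 4 < Nat.card X ∧ NoNormalZ X

theorem IsCoreQuot.cases {N : Subgroup G} (hN : IsCoreQuot N) :
    N = ⊤ ∨ (∃ f : G →* DihedralGroup 2, Function.Surjective f ∧ f.ker = N) ∨ IsBigQuot N := by
  rcases hN with h | h | ⟨f, h1, h2⟩ | ⟨f, h1, h2⟩ | ⟨f, h1, h2⟩ | ⟨f, h1, h2⟩
  · exact Or.inl h
  · exact Or.inr (Or.inl h)
  all_goals refine Or.inr (Or.inr ⟨_, _, inferInstance, f, h1, h2, ?_, ?_⟩)
  · rw [nat_card_alternatingGroup, Nat.card_fin]; decide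
  · exact noNormalZ_alternating_four
  · rw [Nat.card_perm, Nat.card_fin]; decide
  · exact noNormalZ_perm_four
  · rw [nat_card_alternatingGroup, Nat.card_fin]; decide
  · exact noNormalZ_alternating_five
  · rw [Nat.card_perm, Nat.card_fin]; decide
  · exact noNormalZ_perm_five

omit [Finite G] in
theorem IsBigQuot.four_lt {N : Subgroup G} (h : IsBigQuot N) : 4 < N.index := by
  obtain ⟨X, _, _, f, hf, rfl, h4, -⟩ := h
  rwa [Subgroup.index_ker, MonoidHom.range_eq_top.mpr hf, Subgroup.card_top]

theorem IsBigQuot.le {N N' : Subgroup G} (h : IsBigQuot N) [N'.Normal] [IsZGroup N'] : N' ≤ N := by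
  obtain ⟨X, _, _, f, hf, rfl, -, hX⟩ := h
  have : IsZGroup (N'.map f) := IsZGroup.of_surjective (f := f.subgroupMap N')
    (f.subgroupMap_surjective N')
  have := hX _ (Subgroup.Normal.map inferInstance f hf) this
  rwa [Subgroup.map_eq_bot_iff] at this

omit [Finite G] in
theorem index_klein {f : G →* DihedralGroup 2} (hf : Function.Surjective f) : f.ker.index = 4 := by
  rw [Subgroup.index_ker, MonoidHom.range_eq_top.mpr hf, Subgroup.card_top, Nat.card_eq_fintype_card,
    DihedralGroup.card]

variable (h : HasFpfRep G)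
include h

theorem klein_unique {f f' : G →* DihedralGroup 2} (hf : Function.Surjective f)
    (hf' : Function.Surjective f') : f.ker = f'.ker := by
  classical
  let F : G →* DihedralGroup 2 × DihedralGroup 2 := f.prod f'
  have hsq : ∀ x, F x * F x = 1 := fun x => Prod.ext (klein_sq _) (klein_sq _)
  let P : Sylow 2 G := default
  have hR : IsPGroup 2 F.range := fun x => ⟨1, Subtype.ext (by
    obtain ⟨g, hg⟩ := x.2
    rw [pow_one, Subgroup.coe_pow, pow_two, ← hg]
    exact hsq g)⟩
  have hPtop : (P : Subgroup G).map F.rangeRestrict = ⊤ :=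
    ((Sylow.mapSurjective F.rangeRestrict_surjective P).is_maximal' (IsPGroup.to_subgroup hR ⊤) le_top).symm
  have hsmall : ∃ S : Finset (DihedralGroup 2 × DihedralGroup 2), S.card ≤ 4 ∧
      ∀ x ∈ (P : Subgroup G), F x ∈ S := by
    rcases sylow_cyclic_or_quaternion h P with hc | ⟨-, n, ⟨e⟩⟩
    · obtain ⟨⟨g, hgP⟩, hg⟩ := hc.exists_generator
      refine ⟨{1, F g}, Finset.card_le_two.trans (by norm_num), fun x hx => ?_⟩
      obtain ⟨i, hi⟩ := hg ⟨x, hx⟩
      have hi' : g ^ i = x := congrArg Subtype.val hi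
      rw [← hi', map_zpow]
      rcases Int.even_or_odd' i with ⟨j, rfl | rfl⟩
      · rw [zpow_mul, zpow_two, hsq, one_zpow]; simp
      · rw [zpow_add, zpow_mul, zpow_two, hsq, one_zpow, one_mul, zpow_one]; simp
    · let Φ : QuaternionGroup (2 ^ n) →* DihedralGroup 2 × DihedralGroup 2 :=
        F.comp ((P : Subgroup G).subtype.comp e.symm.toMonoidHom)
      set A := Φ (QuaternionGroup.a 1) with hA
      set B := Φ (QuaternionGroup.xa 0) with hB
      refine ⟨{1, A, B, B * A}, Finset.card_le_four, fun x hx => ?_⟩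
      have hx' : F x = Φ (e ⟨x, hx⟩) := by simp [Φ]
      rw [hx']
      have hA2 : A * A = 1 := hsq _
      have hpow : ∀ k : ℕ, A ^ k = 1 ∨ A ^ k = A := by
        intro k
        rcases Nat.even_or_odd' k with ⟨j, rfl | rfl⟩
        · left; rw [pow_mul, pow_two, hA2, one_pow]
        · right; rw [pow_succ, pow_mul, pow_two, hA2, one_pow, one_mul]
      cases e ⟨x, hx⟩ with
      | a i =>
        rw [← ZMod.natCast_zmod_val i, ← QuaternionGroup.a_one_pow, map_pow, ← hA]
        rcases hpow i.val with e' | e' <;> simp [e']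
      | xa i =>
        rw [← ZMod.natCast_zmod_val i,
          show (QuaternionGroup.xa (i.val : ZMod (2 * 2 ^ n))) =
            QuaternionGroup.xa 0 * QuaternionGroup.a (i.val : ZMod (2 * 2 ^ n)) by
            rw [QuaternionGroup.xa_mul_a, zero_add],
          map_mul, ← QuaternionGroup.a_one_pow, map_pow, ← hA, ← hB]
        rcases hpow i.val with e' | e' <;> simp [e']
  obtain ⟨S, hS4, hS⟩ := hsmall
  have hcard : Nat.card F.range ≤ 4 := by
    have hsub : ∀ r : F.range, (r : DihedralGroup 2 × DihedralGroup 2) ∈ S := by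
      intro r
      obtain ⟨x, hx, rfl⟩ := (hPtop ▸ Subgroup.mem_top r : r ∈ (P : Subgroup G).map F.rangeRestrict)
      exact hS x hx
    have := Nat.card_le_card_of_injective (fun r => (⟨_, hsub r⟩ : S))
      (fun r s e => Subtype.ext (congrArg (fun z : S => (z : DihedralGroup 2 × DihedralGroup 2)) e))
    rw [Nat.card_eq_fintype_card (α := S), Fintype.card_coe] at this
    omega
  have key : ∀ (φ : G →* DihedralGroup 2), Function.Surjective φ → F.ker ≤ φ.ker → F.ker = φ.ker := by
    intro φ hφ hle
    refine Subgroup.eq_of_le_of_card_ge hle ?_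
    have h1 := F.ker.card_mul_index
    have h2 := φ.ker.card_mul_index
    rw [Subgroup.index_ker] at h1
    rw [index_klein hφ] at h2
    have := Nat.card_pos (α := F.range)
    nlinarith
  exact (key f hf fun x hx => congrArg Prod.fst (MonoidHom.mem_ker.mp hx)).symm.trans
    (key f' hf' fun x hx => congrArg Prod.snd (MonoidHom.mem_ker.mp hx))

theorem coreQuot_unique {N N' : Subgroup G} [N.Normal] [N'.Normal] [IsZGroup N] [IsZGroup N']
    (hN : IsCoreQuot N) (hN' : IsCoreQuot N') : N = N' := by
  have top_klein : ∀ M M' : Subgroup G, IsZGroup M → M = ⊤ →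
      (∃ f : G →* DihedralGroup 2, Function.Surjective f ∧ f.ker = M') → False := by
    rintro M M' hM rfl ⟨f, hf, -⟩
    have : IsZGroup G := IsZGroup.of_injective (f := (Subgroup.topEquiv (G := G)).symm.toMonoidHom)
      (MulEquiv.injective _)
    exact klein_not_isZGroup (IsZGroup.of_surjective hf)
  have big_small : ∀ M M' : Subgroup G, IsBigQuot M → M'.Normal → IsZGroup M' → M'.index ≤ 4 → False := by
    intro M M' hM hn hz hle
    have hMM := hM.le (N' := M')
    have h1 := hM.four_lt
    have h2 := Subgroup.index_dvd_of_le hMM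
    have := Nat.le_of_dvd (Nat.pos_of_ne_zero Subgroup.index_ne_zero_of_finite) h2
    omega
  rcases hN.cases with h1 | ⟨f, hf, h1⟩ | h1 <;> rcases hN'.cases with h2 | ⟨f', hf', h2⟩ | h2
  · rw [h1, h2]
  · exact (top_klein N N' inferInstance h1 ⟨f', hf', h2⟩).elim
  · exact (big_small N' N h2 inferInstance inferInstance (by rw [h1, Subgroup.index_top]; norm_num)).elim
  · exact (top_klein N' N inferInstance h2 ⟨f, hf, h1⟩).elim
  · rw [← h1, ← h2]; exact klein_unique h hf hf'
  · exact (big_small N' N h2 inferInstance inferInstance (by rw [← h1, index_klein hf])).elim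
  · exact (big_small N N' h1 inferInstance inferInstance (by rw [h2, Subgroup.index_top]; norm_num)).elim
  · exact (big_small N N' h1 inferInstance inferInstance (by rw [← h2, index_klein hf'])).elim
  · exact le_antisymm h2.le h1.le

omit h in
theorem isCyclic_sylow_two_of_not_four_dvd {H : Type*} [Group H] [Finite H]
    (h4 : ¬ 4 ∣ Nat.card H) (P : Sylow 2 H) : IsCyclic (P : Subgroup H) := by
  obtain ⟨k, hk⟩ := P.2.exists_card_eq
  have hk1 : k ≤ 1 := by
    by_contra hk2
    exact h4 ((hk ▸ pow_dvd_pow 2 (by omega : 2 ≤ k) : 4 ∣ Nat.card (P : Subgroup H)).trans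
      (Subgroup.card_subgroup_dvd_card _))
  rcases Nat.le_one_iff_eq_zero_or_eq_one.mp hk1 with rfl | rfl
  · have : Subsingleton (P : Subgroup H) := (Nat.card_eq_one_iff_unique.mp (by rw [hk, pow_zero])).1
    infer_instance
  · have : Fact (Nat.Prime 2) := ⟨Nat.prime_two⟩
    exact isCyclic_of_prime_card (hk.trans (pow_one 2))

/-- Existence for insoluble groups. -/
theorem exists_coreQuot_insoluble (hns : ¬ Group.IsSolvable G) :
    ∃ N : Subgroup G, N.Normal ∧ IsZGroup N ∧ IsCoreQuot N := by
  classical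
  obtain ⟨L, hLn, hL, -⟩ := exists_normal_sl25 h hns
  set C := Subgroup.centralizer (L : Set G) with hC
  have hCn : C.Normal := Subgroup.normal_centralizer
  refine ⟨C, hCn, centralizer_isZGroup h hL, ?_⟩
  have hmov : ∀ g : G, ∀ l ∈ L, g * l * g⁻¹ ∈ L := fun g l hl => hLn.conj_mem l hl g
  have hidx := index_sup_centralizer_le h hL
  have hcard2 := centralizer_inf h hL
  have hL120 := hL.1
  have hL' := hL
  obtain ⟨-, π, hπ, hr⟩ := hL
  have hker : ∀ φ : MulAut L, π.ker.map φ.toMonoidHom = π.ker := by
    intro φ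
    refine le_antisymm ?_ fun x hx => ⟨φ.symm x, ?_, φ.apply_symm_apply x⟩
    · rintro _ ⟨x, hx, rfl⟩
      rw [MonoidHom.mem_ker, hπ]
      show φ x * φ x = 1
      rw [← map_mul, (hπ x).1 hx, map_one]
    · rw [SetLike.mem_coe, MonoidHom.mem_ker, hπ, ← map_mul, (hπ x).1 hx, map_one]
  let e : (L ⧸ π.ker) ≃* alternatingGroup (Fin 5) :=
    (QuotientGroup.quotientKerEquivRange π).trans (MulEquiv.subgroupCongr hr)
  have he : ∀ l : L, ((e (QuotientGroup.mk l) : alternatingGroup (Fin 5)) : Equiv.Perm (Fin 5)) = π l :=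
    fun l => rfl
  let ind : MulAut L →* MulAut (alternatingGroup (Fin 5)) :=
    { toFun := fun φ => (e.symm.trans (QuotientGroup.congr π.ker π.ker φ (hker φ))).trans e
      map_one' := by
        refine MulEquiv.ext fun a => ?_
        obtain ⟨q, rfl⟩ := e.surjective a
        obtain ⟨l, rfl⟩ := QuotientGroup.mk_surjective q
        simp only [MulEquiv.trans_apply, MulEquiv.symm_apply_apply]
        rfl
      map_mul' := fun φ ψ => by
        refine MulEquiv.ext fun a => ?_
        obtain ⟨q, rfl⟩ := e.surjective a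
        obtain ⟨l, rfl⟩ := QuotientGroup.mk_surjective q
        simp only [MulAut.mul_apply, MulEquiv.trans_apply, MulEquiv.symm_apply_apply]
        rfl }
  let σ : Equiv.Perm (Fin 5) ≃* MulAut (alternatingGroup (Fin 5)) :=
    MulEquiv.ofBijective _ ⟨AltAut.conjNormal_injective (by simp),
      AltAut.conjNormal_surjective (by simp) (by simp)⟩
  let f : G →* Equiv.Perm (Fin 5) := σ.symm.toMonoidHom.comp (ind.comp MulAut.conjNormal)
  have hfker : f.ker = C := by
    ext g
    rw [MonoidHom.mem_ker]
    show σ.symm (ind (MulAut.conjNormal g)) = 1 ↔ _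
    rw [map_eq_one_iff σ.symm σ.symm.injective]
    have happ : ∀ l : L, ((ind (MulAut.conjNormal g) (e (QuotientGroup.mk l)) :
        alternatingGroup (Fin 5)) : Equiv.Perm (Fin 5)) = π (MulAut.conjNormal g l) := fun l => by
      rw [← he]
      simp only [ind, MonoidHom.coe_mk, OneHom.coe_mk, MulEquiv.trans_apply, MulEquiv.symm_apply_apply]
      rfl
    constructor
    · intro hg
      have hfix : ∀ x, IsThree x → g * x = x * g := by
        intro x hx
        have hxL : x ∈ L := three_mem h hL' hx
        have e1 := happ ⟨x, hxL⟩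
        rw [hg, MulAut.one_apply, he] at e1
        have e2 := image_injOn h hπ (m := ⟨x, hxL⟩) (k := MulAut.conjNormal g ⟨x, hxL⟩) hx
          (by rw [MulAut.conjNormal_apply]; exact hx.conj g) e1
        have e3 := congrArg Subtype.val e2
        rw [MulAut.conjNormal_apply] at e3
        exact (eq_mul_inv_iff_mul_eq.mp e3).symm
      have hle : L ≤ Subgroup.centralizer {g} := by
        rw [← eq_closure_threes h hL']
        refine (Subgroup.closure_le _).mpr fun x hx => ?_
        exact Subgroup.mem_centralizer_singleton_iff.mpr (hfix x hx).symm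
      exact Subgroup.mem_centralizer_iff.mpr fun l hl =>
        Subgroup.mem_centralizer_singleton_iff.mp (hle hl)
    · intro hg
      refine MulEquiv.ext fun a => ?_
      obtain ⟨q, rfl⟩ := e.surjective a
      obtain ⟨l, rfl⟩ := QuotientGroup.mk_surjective q
      refine Subtype.ext ?_
      rw [happ, MulAut.one_apply, he]
      congr 1
      refine Subtype.ext ?_
      rw [MulAut.conjNormal_apply, ← (Subgroup.mem_centralizer_iff.mp hg (l : G) l.2),
        mul_inv_cancel_right]
  have hrange : f.range.index ≤ 2 ∧ (f.range.index = 1 → Function.Surjective f) := by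
    refine ⟨?_, fun h1 => MonoidHom.range_eq_top.mp (Subgroup.index_eq_one.mp h1)⟩
    have h1 := f.range.card_mul_index
    rw [← Subgroup.index_ker, hfker, Nat.card_perm, Nat.card_fin] at h1
    have h3 := Subgroup.relIndex_mul_index (le_sup_right : C ≤ L ⊔ C)
    rw [Subgroup.relIndex_sup_right] at h3
    have h2 : C.relIndex L * 2 = 120 := by
      have e := Subgroup.relIndex_mul_relIndex ⊥ (L ⊓ C) L bot_le inf_le_left
      rw [Subgroup.relIndex_bot_left, Subgroup.relIndex_bot_left, Subgroup.inf_relIndex_left, hC,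
        hcard2, hL120, mul_comm] at e
      exact e
    rw [← hC] at hidx
    have h5 : 1 ≤ (L ⊔ C).index := Nat.pos_of_ne_zero Subgroup.index_ne_zero_of_finite
    have h6 : 60 ≤ C.index := by nlinarith
    norm_num [Nat.factorial] at h1
    nlinarith
  rcases (show f.range.index = 1 ∨ f.range.index = 2 by
    have := Nat.pos_of_ne_zero (Subgroup.index_ne_zero_of_finite (H := f.range)); omega) with h1 | h1
  · exact Or.inr (Or.inr (Or.inr (Or.inr (Or.inr ⟨f, hrange.2 h1, hfker⟩))))
  · have hA := Equiv.Perm.eq_alternatingGroup_of_index_eq_two h1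
    refine Or.inr (Or.inr (Or.inr (Or.inr (Or.inl
      ⟨(MulEquiv.subgroupCongr hA).toMonoidHom.comp f.rangeRestrict,
        (MulEquiv.subgroupCongr hA).surjective.comp f.rangeRestrict_surjective, ?_⟩))))
    refine Eq.trans ?_ ((MonoidHom.ker_rangeRestrict f).trans hfker)
    ext x
    simp only [MonoidHom.mem_ker, MonoidHom.comp_apply, MulEquiv.toMonoidHom_eq_coe,
      MonoidHom.coe_coe, map_eq_one_iff _ (MulEquiv.subgroupCongr hA).injective]

end Cfsg.Agent.Lib.Zass25
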