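import Cfsg.Agent.Lib.Zass25.SixTypes
import Cfsg.Agent.Lib.Fusion87.QuaternionSL2

/-!
The quotient types of soluble fixed-point-free groups, and the six type theorem.
-/

set_option autoImplicit false

namespace Cfsg.Agent.Lib.Zass25

/-- The four-group quotient of a generalized quaternion group. -/
def kleinQuot {n : ℕ} (hn : 1 ≤ n) : QuaternionGroup (2 ^ n) →* DihedralGroup 2 where
  toFun
    | .a i => DihedralGroup.r (ZMod.castHom (dvd_mul_right 2 (2 ^ n)) (ZMod 2) i)
    | .xa i => DihedralGroup.sr (ZMod.castHom (dvd_mul_right 2 (2 ^ n)) (ZMod 2) i)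
  map_one' := by
    show DihedralGroup.r (ZMod.castHom (dvd_mul_right 2 (2 ^ n)) (ZMod 2) 0) = _
    rw [map_zero]; rfl
  map_mul' := by
    have h2 : ((2 ^ n : ℕ) : ZMod 2) = 0 :=
      (ZMod.natCast_eq_zero_iff _ _).mpr (dvd_pow_self 2 (by omega))
    rintro (i | i) (j | j)
    · simp only [QuaternionGroup.a_mul_a, DihedralGroup.r_mul_r, map_add]
    · simp only [QuaternionGroup.a_mul_xa, DihedralGroup.r_mul_sr, map_sub]
    · simp only [QuaternionGroup.xa_mul_a, DihedralGroup.sr_mul_r, map_add]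
    · simp only [QuaternionGroup.xa_mul_xa, DihedralGroup.sr_mul_sr, map_add, map_sub, map_natCast,
        h2, zero_add]

theorem kleinQuot_surjective {n : ℕ} (hn : 1 ≤ n) : Function.Surjective (kleinQuot hn) := by
  rintro (i | i)
  · refine ⟨QuaternionGroup.a (i.val : ℕ), congrArg DihedralGroup.r ?_⟩
    rw [map_natCast, ZMod.natCast_zmod_val]
  · refine ⟨QuaternionGroup.xa (i.val : ℕ), congrArg DihedralGroup.sr ?_⟩
    rw [map_natCast, ZMod.natCast_zmod_val]

theorem mem_zpowers_of_kleinQuot {n : ℕ} (hn : 1 ≤ n) {q : QuaternionGroup (2 ^ n)}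
    (hq : kleinQuot hn q = 1) : q ∈ Subgroup.zpowers (QuaternionGroup.a 1) := by
  cases q with
  | a i =>
    refine ⟨(i.val : ℤ), ?_⟩
    show QuaternionGroup.a 1 ^ (i.val : ℤ) = _
    rw [zpow_natCast, QuaternionGroup.a_one_pow, ZMod.natCast_zmod_val]
  | xa i =>
    rw [DihedralGroup.one_def] at hq
    exact nomatch hq

variable {G : Type*} [Group G] [Finite G] (h : HasFpfRep G)
include h

theorem pGroup_cyclic_or_quaternion {p : ℕ} [Fact p.Prime] {Q : Subgroup G} (hQ : IsPGroup p Q) :
    IsCyclic Q ∨ (p = 2 ∧ ∃ n : ℕ, Nonempty (Q ≃* QuaternionGroup (2 ^ n))) := by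
  let S : Sylow p Q := default
  have hS : (S : Subgroup Q) = ⊤ := (S.is_maximal' (hQ.to_subgroup ⊤) le_top).symm
  let e : (S : Subgroup Q) ≃* Q := (MulEquiv.subgroupCongr hS).trans Subgroup.topEquiv
  rcases sylow_cyclic_or_quaternion (h.subgroup Q) S with hc | ⟨hp, n, ⟨f⟩⟩
  · exact Or.inl (e.isCyclic.mp hc)
  · exact Or.inr ⟨hp, n, ⟨e.symm.trans f⟩⟩

theorem exists_coreQuot_soluble (hs : Group.IsSolvable G) :
    ∃ N : Subgroup G, N.Normal ∧ IsZGroup N ∧ IsCoreQuot N := by
  classical
  by_cases hz : IsZGroup G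
  · exact ⟨⊤, inferInstance, IsZGroup.of_injective (f := (⊤ : Subgroup G).subtype)
      Subtype.val_injective, Or.inl rfl⟩
  haveI := hs
  have h2f : Fact (Nat.Prime 2) := ⟨Nat.prime_two⟩
  obtain ⟨T, hT⟩ : ∃ T : Sylow 2 G, ¬ IsCyclic (T : Subgroup G) := by
    by_contra hne
    push Not at hne
    exact hz (isZGroup_of_two h hne)
  obtain ⟨-, n, ⟨eT⟩⟩ := (sylow_cyclic_or_quaternion h T).resolve_left hT
  have hn : 1 ≤ n := by
    by_contra hn0
    obtain rfl : n = 0 := by omega
    have : IsCyclic (QuaternionGroup (2 ^ 0)) := QuaternionGroup.quaternionGroup_one_isCyclic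
    exact hT (eT.isCyclic.mpr this)
  set O := Cfsg.pPrimeCore 2 G with hO
  have hOn : O.Normal := by
    have := PSolvable.pPrimeCore_characteristic (p := 2) (G := G)
    infer_instance
  have hOodd : ¬ 2 ∣ Nat.card O := PSolvable.pPrimeCore_not_dvd
  let mk : G →* G ⧸ O := QuotientGroup.mk' O
  have hinj : ∀ S : Subgroup G, IsPGroup 2 S → Function.Injective (mk.comp S.subtype) := by
    intro S hS
    rw [← MonoidHom.ker_eq_bot_iff, eq_bot_iff]
    intro x hx
    have hxO : (x : G) ∈ O := (QuotientGroup.eq_one_iff _).mp hx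
    have hb := PSolvable.inf_eq_bot_of_isPGroup_of_coprime (H := S) (K := O) hS
      PSolvable.pPrimeCore_coprime
    have : (x : G) ∈ S ⊓ O := ⟨x.2, hxO⟩
    rw [hb, Subgroup.mem_bot] at this
    exact Subgroup.mem_bot.mpr (Subtype.ext this)
  let TT : Sylow 2 (G ⧸ O) := T.mapSurjective (QuotientGroup.mk'_surjective O)
  by_cases hb : IsPGroup 2 (G ⧸ O)
  · -- a normal 2-complement
    have hTT : (T : Subgroup G).map mk = ⊤ :=
      (TT.is_maximal' (IsPGroup.to_subgroup hb ⊤) le_top).symm
    have hbij : Function.Bijective (mk.comp (T : Subgroup G).subtype) := by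
      refine ⟨hinj _ T.2, MonoidHom.range_eq_top.mp ?_⟩
      rw [MonoidHom.range_comp, Subgroup.range_subtype]
      exact hTT
    let eG : G ⧸ O ≃* QuaternionGroup (2 ^ n) := (MulEquiv.ofBijective _ hbij).symm.trans eT
    let f : G →* DihedralGroup 2 := (kleinQuot hn).comp (eG.toMonoidHom.comp mk)
    refine ⟨f.ker, inferInstance, isZGroup_of_two (h.subgroup _) fun S => ?_,
      Or.inr (Or.inl ⟨f, (kleinQuot_surjective hn).comp
        (eG.surjective.comp (QuotientGroup.mk'_surjective O)), rfl⟩)⟩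
    let S' : Subgroup G := (S : Subgroup f.ker).map f.ker.subtype
    let g : (S : Subgroup f.ker) →* Subgroup.zpowers (QuaternionGroup.a 1 : QuaternionGroup (2 ^ n)) :=
      ((eG.toMonoidHom.comp mk).comp (f.ker.subtype.comp (S : Subgroup f.ker).subtype)).codRestrict _
        fun x => mem_zpowers_of_kleinQuot hn (x : f.ker).2
    refine isCyclic_of_injective g fun x y hxy => ?_
    have e1 : mk ((x : f.ker) : G) = mk ((y : f.ker) : G) :=
      eG.injective (congrArg Subtype.val hxy)
    have := hinj S' (S.2.map f.ker.subtype) (a₁ := ⟨_, ⟨_, x.2, rfl⟩⟩) (a₂ := ⟨_, ⟨_, y.2, rfl⟩⟩) e1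
    exact Subtype.ext (Subtype.ext (congrArg Subtype.val this :))
  · -- `O₂` of the quotient is a quaternion group of order eight
    set Qb := Cfsg.pCore 2 (G ⧸ O) with hQb
    have hcore : Cfsg.pPrimeCore 2 (G ⧸ O) = ⊥ := PSolvable.pPrimeCore_quotient_eq_bot
    have hsb : Group.IsSolvable (G ⧸ O) := Group.isSolvable_of_surjective (QuotientGroup.mk'_surjective O)
    have hcent : Subgroup.centralizer (Qb : Set (G ⧸ O)) ≤ Qb :=
      SolvableCore.centralizer_pCore_le hsb hcore
    have hQn : Qb.Normal := by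
      have := PSolvable.pCore_characteristic (p := 2) (G := G ⧸ O)
      infer_instance
    set Q : Subgroup G := (T : Subgroup G) ⊓ Qb.comap mk with hQ
    have hQ2 : IsPGroup 2 Q := T.2.to_le inf_le_left
    have hQmap : Q.map mk = Qb := by
      refine le_antisymm (Subgroup.map_le_iff_le_comap.mpr inf_le_right) fun x hx => ?_
      obtain ⟨t, ht, rfl⟩ := PSolvable.pCore_le_sylow TT hx
      exact ⟨t, ⟨ht, hx⟩, rfl⟩
    let eQ : Q ≃* Qb := (MonoidHom.ofInjective (hinj Q hQ2)).trans
      (MulEquiv.subgroupCongr (by rw [MonoidHom.range_comp, Subgroup.range_subtype, hQmap]))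
    have hQnc : ¬ IsCyclic Qb := fun hc =>
      hb (SolvableCore.isPGroup_two_of_isCyclic_pCore hsb hcore hc)
    obtain ⟨-, m, ⟨eQ'⟩⟩ := (pGroup_cyclic_or_quaternion h hQ2).resolve_left
      fun hc => hQnc (eQ.isCyclic.mp hc)
    let e : Qb ≃* QuaternionGroup (2 ^ m) := eQ.symm.trans eQ'
    let θ : G ⧸ O →* MulAut (QuaternionGroup (2 ^ m)) :=
      (MulAut.congr e).toMonoidHom.comp MulAut.conjNormal
    have hθ : ∀ x, θ x = 1 → x ∈ Qb ∧ x ∈ Subgroup.centralizer (Qb : Set (G ⧸ O)) := by
      intro x hx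
      have hx1 : MulAut.conjNormal x = (1 : MulAut Qb) :=
        (MulAut.congr e).injective (hx.trans (map_one _).symm)
      have hc : x ∈ Subgroup.centralizer (Qb : Set (G ⧸ O)) :=
        Subgroup.mem_centralizer_iff.mpr fun q hq => by
          have e1 := congrArg Subtype.val (DFunLike.congr_fun hx1 (⟨q, hq⟩ : Qb))
          rw [MulAut.conjNormal_apply, MulAut.one_apply] at e1
          exact (mul_inv_eq_iff_eq_mul.mp e1).symm
      exact ⟨hcent hc, hc⟩
    have hm : m = 1 := by
      rcases (show m = 0 ∨ m = 1 ∨ 2 ≤ m by omega) with rfl | rfl | hm2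
      · exfalso
        have : IsCyclic (QuaternionGroup (2 ^ 0)) := QuaternionGroup.quaternionGroup_one_isCyclic
        exact hQnc (e.isCyclic.mpr this)
      · rfl
      exfalso
      refine hb (IsPGroup.iff_card.mpr ⟨_, Nat.eq_prime_pow_of_unique_prime_dvd Nat.card_pos.ne'
        fun {d} hd hdd => ?_⟩)
      by_contra hd2
      have := Fact.mk hd
      obtain ⟨x, hx⟩ := exists_prime_orderOf_dvd_card' d hdd
      have hα : (orderOf (θ x)).Coprime 2 :=
        Nat.Coprime.coprime_dvd_left (hx ▸ orderOf_map_dvd θ x)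
          ((Nat.coprime_primes hd Nat.prime_two).mpr hd2)
      have hxQ := (hθ x (Fusion87.QuatSL2.eq_one_of_odd_aut hm2 (θ x) hα)).1
      obtain ⟨k, hk⟩ := PSolvable.pCore_isPGroup (p := 2) (G := G ⧸ O) ⟨x, hxQ⟩
      have : d ∣ 2 ^ k := hx ▸ orderOf_dvd_of_pow_eq_one (congrArg Subtype.val hk)
      exact hd2 ((Nat.prime_dvd_prime_iff_eq hd Nat.prime_two).mp (hd.dvd_of_dvd_pow this))
    subst hm
    have hker2 : Nat.card θ.ker ≤ 2 := by
      let g : θ.ker → ({1, QuaternionGroup.a 2} : Finset (QuaternionGroup 2)) := fun x =>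
        ⟨e ⟨x, (hθ x x.2).1⟩, by
          have := center_eight (e ⟨x, (hθ x x.2).1⟩) fun y => by
            obtain ⟨q, rfl⟩ := e.surjective y
            rw [← map_mul, ← map_mul]
            exact congrArg e (Subtype.ext
              (Subgroup.mem_centralizer_iff.mp (hθ x x.2).2 q q.2).symm)
          rcases this with e' | e' <;> simp [e']⟩
      have hg : Function.Injective g := fun x y hxy => Subtype.ext
        (congrArg Subtype.val (e.injective (congrArg Subtype.val hxy)) :)
      have := Nat.card_le_card_of_injective g hg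
      rw [Nat.card_eq_fintype_card (α := ({1, QuaternionGroup.a 2} : Finset (QuaternionGroup 2))),
        Fintype.card_coe] at this
      exact this.trans Finset.card_le_two
    have hcardmul : Nat.card θ.ker * Nat.card θ.range = Nat.card (G ⧸ O) := by
      rw [← Subgroup.index_ker]; exact θ.ker.card_mul_index
    have h4 : 4 ∣ Nat.card θ.range := by
      have h8 : 8 ∣ Nat.card (G ⧸ O) := by
        have : Nat.card Qb = 8 := by
          rw [Nat.card_congr e.toEquiv, Nat.card_eq_fintype_card, QuaternionGroup.card]; rfl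
        exact this ▸ Subgroup.card_subgroup_dvd_card Qb
      rw [← hcardmul] at h8
      have hpos := Nat.card_pos (α := θ.ker)
      rcases (show Nat.card θ.ker = 1 ∨ Nat.card θ.ker = 2 by omega) with e1 | e1 <;>
        rw [e1] at h8 <;> omega
    have hnotp : ¬ IsPGroup 2 θ.range := fun hp => by
      obtain ⟨a, ha⟩ := IsPGroup.iff_card.mp hp
      refine hb (IsPGroup.iff_card.mpr ?_)
      have hpos := Nat.card_pos (α := θ.ker)
      rcases (show Nat.card θ.ker = 1 ∨ Nat.card θ.ker = 2 by omega) with e1 | e1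
      · exact ⟨a, by rw [← hcardmul, e1, ha, one_mul]⟩
      · exact ⟨a + 1, by rw [← hcardmul, e1, ha, pow_succ']⟩
    let F : G →* θ.range := θ.rangeRestrict.comp mk
    have hF : Function.Surjective F :=
      θ.rangeRestrict_surjective.comp (QuotientGroup.mk'_surjective O)
    have hZ : IsZGroup F.ker := isZGroup_of_two (h.subgroup _) fun S => by
      refine isCyclic_sylow_two_of_not_four_dvd (fun hd => ?_) S
      have h1 := F.ker.card_mul_index
      rw [Subgroup.index_ker, MonoidHom.range_eq_top.mpr hF, Subgroup.card_top] at h1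
      have h3 := O.card_mul_index
      rw [Subgroup.index_eq_card, ← hcardmul] at h3
      have h5 : Nat.card F.ker = Nat.card O * Nat.card θ.ker := by
        refine Nat.eq_of_mul_eq_mul_right (Nat.card_pos (α := θ.range)) ?_
        rw [h1, ← h3, mul_assoc]
      rw [h5] at hd
      have hco : (4 : ℕ).Coprime (Nat.card O) :=
        (Nat.Coprime.pow_left 2 (Nat.prime_two.coprime_iff_not_dvd.mpr hOodd) :)
      have := Nat.le_of_dvd Nat.card_pos (hco.dvd_of_dvd_mul_left hd)
      omega
    have hkerE : ∀ {X : Type} [Group X] (ε : θ.range ≃* X), (ε.toMonoidHom.comp F).ker = F.ker :=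
      fun ε => by
        ext x
        simp only [MonoidHom.mem_ker, MonoidHom.comp_apply, MulEquiv.toMonoidHom_eq_coe,
          MonoidHom.coe_coe, map_eq_one_iff _ ε.injective]
    refine ⟨F.ker, inferInstance, hZ, ?_⟩
    rcases iso_of_aut θ.range h4 hnotp with ⟨-, ⟨ε⟩⟩ | ⟨-, ⟨ε⟩⟩
    · exact Or.inr (Or.inr (Or.inl ⟨_, ε.surjective.comp hF, hkerE ε⟩))
    · exact Or.inr (Or.inr (Or.inr (Or.inl ⟨_, ε.surjective.comp hF, hkerE ε⟩)))

theorem existsUnique_coreQuot :
    ∃! N : Subgroup G, N.Normal ∧ IsZGroup N ∧ IsCoreQuot N := by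
  obtain ⟨N, hn, hz, hq⟩ : ∃ N : Subgroup G, N.Normal ∧ IsZGroup N ∧ IsCoreQuot N := by
    by_cases hs : Group.IsSolvable G
    · exact exists_coreQuot_soluble h hs
    · exact exists_coreQuot_insoluble h hs
  refine ⟨N, ⟨hn, hz, hq⟩, ?_⟩
  rintro N' ⟨hn', hz', hq'⟩
  exact coreQuot_unique h hq' hq

end Cfsg.Agent.Lib.Zass25
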